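import Groth.Agent.RedSub.H660.Restrict
import Groth.Agent.RedSub.H645.BorelEt
import Groth.Agent.RedSub.H648.BorBc
import Groth.Agent.Sga3B.Parab.RedCover147
import Groth.Agent.Sga3B.AlgBc2
import Groth.Agent.Sga3B.RedBcAny636
import Groth.Agent.Sga3B.Parab.PbKN751
import Groth.Agent.Sga3B.RG.PbNorm890
import Groth.Agent.Sga3B.Parab.PbAll910

/-!
# The classes of Borel and of parabolic subgroups of a reductive group

`Good P` : a property of closed subgroups of group schemes, invariant under isomorphisms, stable under base change (for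
reductive ambient groups) and étale local.  `Good.toClass` : the class of subgroups of the base changes of a reductive
group; it is étale local (`toClass_isLocal`).  `good_isBorel`, `good_isParabolic`.

`Good.representableBy` : representability over `V ⟶ S` of the functor of subgroups with the property `P` by the disjoint
union of the quotients `G_V / Q j`.
-/

set_option autoImplicit false
universe u

open CategoryTheory CategoryTheory.Limits AlgebraicGeometry Opposite MonoidalCategory CartesianMonoidalCategory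
  MonObj GrpObj

namespace Groth.Agent.RedSub.H660.Classes

open Groth.Agent.Sga3B Groth.Agent.Sga3B.BcPts Groth.Agent.Sga3B.MT Groth.Agent.Sga3B.RepDescent
open Groth.Agent.RedSub.H647.SubPt Groth.Agent.RedSub.H647.SubF Groth.Agent.RedSub.H647.SubF.SubClass
open Groth.Agent.Redsub.H649.ConjPts (fam InC taut)
open Groth.Agent.RedSub.H645.EtConj Groth.Agent.Sga3B.Parab.RedCover147 Groth.Agent.Sga3B.RedIso
open Groth.Agent.RedSub.H660.ConjRep Groth.Agent.RedSub.H660.Restrict

/-- a property of subgroups -/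
def SubProp : Type (u + 1) := ∀ {S : Scheme.{u}} {H G : Over S} [GrpObj H] [GrpObj G], (H ⟶ G) → Prop

/-- A property of closed subgroups, invariant under isomorphisms, stable under base change and étale local. -/
structure Good (P : SubProp.{u}) : Prop where
  isMonHom : ∀ {S : Scheme.{u}} {H G : Over S} [GrpObj H] [GrpObj G] {h : H ⟶ G}, P h → IsMonHom h
  isClosedImmersion : ∀ {S : Scheme.{u}} {H G : Over S} [GrpObj H] [GrpObj G] {h : H ⟶ G}, P h →
    IsClosedImmersion h.left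
  of_arrow : ∀ {S : Scheme.{u}} {H G H₁ G₁ : Over S} [GrpObj H] [GrpObj G] [GrpObj H₁] [GrpObj G₁] {h : H ⟶ G}
    {h₁ : H₁ ⟶ G₁} (φ : Grp.mk H ≅ Grp.mk H₁) (ψ : Grp.mk G ≅ Grp.mk G₁),
    h ≫ (und ψ).hom = (und φ).hom ≫ h₁ → P h → P h₁
  bc : ∀ {S S' : Scheme.{u}} (f : S' ⟶ S) {H G : Over S} [GrpObj H] [GrpObj G] {h : H ⟶ G}, Red.IsReductive G →
    P h → P ((Over.pullback f).map h)
  loc : ∀ {S : Scheme.{u}} {J : Type u} {S' : J → Scheme.{u}} {f : ∀ i, S' i ⟶ S}, IsEtCov f →
    ∀ {H G : Over S} [GrpObj H] [GrpObj G] {h : H ⟶ G}, IsMonHom h → (∀ i, P ((Over.pullback (f i)).map h)) → P h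

theorem good_isBorel : Good (fun {_ _ _} _ _ h => Red.IsBorel h) where
  isMonHom h := h.1
  isClosedImmersion h := h.2.1
  of_arrow φ ψ hc h := AlgBc.isBorel_of_arrow φ ψ hc h
  bc f _ _ _ _ _ hG h := RedSub.H648.BorBc.isBorel_bc f hG h
  loc hf _ _ _ _ _ h1 h2 := isBorel_of_cover hf h1 h2

theorem good_isParabolic : Good (fun {_ _ _} _ _ h => Red.IsParabolic h) where
  isMonHom h := h.1
  isClosedImmersion h := h.2.1
  of_arrow φ ψ hc h := AlgBc.isParabolic_of_arrow φ ψ hc h
  bc f _ _ _ _ _ hG h := RedSub.H648.BorBc.isParabolic_bc f hG h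
  loc hf _ _ _ _ _ h1 h2 := isParabolic_of_cover hf h1 h2

variable {P : SubProp.{u}} (hP : Good P) {S : Scheme.{u}} {G : Over S} [GrpObj G]

namespace Good

include hP

lemma bcSub_iff {S' S'' : Scheme.{u}} (q : S'' ⟶ S') {f : S' ⟶ S} {H : Over S'} [GrpObj H] (h : H ⟶ Red.bc f G) :
    P (bcSub q h) ↔ P ((Over.pullback q).map h) := by
  have e : (Over.pullback q).map h ≫ (und (BcIso.bcCompIso q f G).symm).hom =
      (und (Iso.refl (Grp.mk (Red.bc q H)))).hom ≫ bcSub q h := by
    rw [und_bcCompIso_symm f q]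
    exact (Category.id_comp _).symm
  have e' : bcSub q h ≫ (und (BcIso.bcCompIso q f G)).hom =
      (und (Iso.refl (Grp.mk (Red.bc q H)))).hom ≫ (Over.pullback q).map h := by
    have e2 : (und (Iso.refl (Grp.mk (Red.bc q H)))).hom = 𝟙 _ := rfl
    rw [e2, Category.id_comp] at e ⊢
    rw [← e, Category.assoc, BcNat.und_symm, Iso.inv_hom_id, Category.comp_id]
  exact ⟨hP.of_arrow (Iso.refl _) (BcIso.bcCompIso q f G) e',
    hP.of_arrow (Iso.refl _) (BcIso.bcCompIso q f G).symm e⟩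

lemma down_iff {V S' : Scheme.{u}} (v : V ⟶ S) {f : S' ⟶ V} {H : Over S'} [GrpObj H]
    (h : H ⟶ Red.bc f (Red.bc v G)) : P (down v h) ↔ P h := by
  have e2 : (und (Iso.refl (Grp.mk H))).hom = 𝟙 H := rfl
  have e : h ≫ (und (BcIso.bcCompIso f v G).symm).hom = (und (Iso.refl (Grp.mk H))).hom ≫ down v h := by
    rw [e2, Category.id_comp]
    rfl
  have e' : down v h ≫ (und (BcIso.bcCompIso f v G)).hom = (und (Iso.refl (Grp.mk H))).hom ≫ h := by
    rw [e2, Category.id_comp]
    exact upw_down v h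
  exact ⟨hP.of_arrow (Iso.refl _) (BcIso.bcCompIso f v G) e',
    hP.of_arrow (Iso.refl _) (BcIso.bcCompIso f v G).symm e⟩

lemma comp_cj {S' : Scheme.{u}} {f : S' ⟶ S} (g₀ : Over.mk f ⟶ G) {H : Over S'} [GrpObj H] {h : H ⟶ Red.bc f G}
    (hh : P h) : P (h ≫ cj g₀) := by
  have : IsMonHom (cjIso g₀).hom := isMonHom_cj g₀
  exact hP.of_arrow (Iso.refl _) (Grp.mkIso' (cjIso g₀)) (Category.id_comp _).symm hh

omit hP in
/-- the class of subgroups of the base changes of a reductive group with a good property -/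
def toClass (hP : Good P) (hG : Red.IsReductive G) : SubClass G where
  Q _ _ _ h := P h
  isMonHom h := hP.isMonHom h
  isClosedImmersion h := hP.isClosedImmersion h
  of_iso {S' f H H' _ _ h h'} e he hh := hP.of_arrow e (Iso.refl (Grp.mk (Red.bc f G)))
    (show h ≫ 𝟙 _ = e.hom.hom.hom ≫ h' by rw [Category.comp_id, he]) hh
  bc q _ _ _ _ h := (hP.bcSub_iff q _).2 (hP.bc q (RedBcAny636.isReductive_bc _ hG) h)

lemma toClass_isLocal (hG : Red.IsReductive G) : (hP.toClass hG).IsLocal (fun {_ _ _} q => EtCov q) := by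
  intro S' f J S'' q hq H _ h h1 h2 h3
  refine hP.loc (IsEtCov.of_etale q hq.1 fun s => ?_) h1 fun i => ?_
  · obtain ⟨i, y, hy⟩ := hq.2 s
    exact ⟨i, y, hy⟩
  · exact (hP.bcSub_iff (q i) h).1 (h3 i)

section rep

variable (hG : Red.IsReductive G) {V : Scheme.{u}} (v : V ⟶ S)

lemma restrict_Q_iff {S' : Scheme.{u}} (f : S' ⟶ V) {H : Over S'} [GrpObj H]
    (h : H ⟶ Red.bc f (Red.bc v G)) : (restrict v (hP.toClass hG)).Q f h ↔ P h := hP.down_iff v h

variable {J : Type u} {Q : J → Over V} [∀ j, GrpObj (Q j)] {q : ∀ j, Q j ⟶ Red.bc v G}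

lemma famIn (hq : ∀ j, P (q j)) : FamIn (restrict v (hP.toClass hG)) Q q := by
  intro j S' f g₀
  rw [hP.restrict_Q_iff hG v]
  exact hP.comp_cj g₀ (hP.bc f (RedBcAny636.isReductive_bc v hG) (hq j))

lemma locIn (hconj : ∀ {S' : Scheme.{u}} (f : S' ⟶ V) {H : Over S'} [GrpObj H] (h : H ⟶ Red.bc f (Red.bc v G)),
      P h → ∀ s : S', ∃ j : J, ELConj ((Over.pullback f).map (q j)) h s) :
    LocIn (restrict v (hP.toClass hG)) Q q := by
  refine locIn_of_conjEq fun {S'} f {H} _ h hQ s => ?_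
  rw [hP.restrict_Q_iff hG v] at hQ
  obtain ⟨j, U, π, h1, h2, g, hg⟩ := hconj f h hQ s
  exact ⟨U, π, h1, h2, j, g, (RedSub.H645.ConjEqIff.conjEq_iff g).2 hg⟩

/-- **Representability of the functor of subgroups with the property `P`** over `V ⟶ S`. -/
theorem representableBy (hq : ∀ j, P (q j))
    (hconj : ∀ {S' : Scheme.{u}} (f : S' ⟶ V) {H : Over S'} [GrpObj H] (h : H ⟶ Red.bc f (Red.bc v G)),
      P h → ∀ s : S', ∃ j : J, ELConj ((Over.pullback f).map (q j)) h s)
    (hN : ∀ j, Red.IsNormalizerOf (q j) (q j))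
    (hne : ∀ (i j : J) (T : Over V) (c : T ⟶ Red.bc v G), Nonempty T.left → RedSub.ConjEq (q i) (q j) c → i = j)
    (X : J → Over V) (π : ∀ j, Red.bc v G ⟶ X j) (hπ : ∀ j, RedSub.IsQuotient (q j) (π j))
    (hsm : ∀ j, Smooth (Q j).hom) (Y : Over V) (κ : ∀ j, X j ⟶ Y) [∀ j, IsOpenImmersion (κ j).left]
    (hκ1 : ∀ y : Y.left, ∃ (j : J) (x : (X j).left), (κ j).left x = y)
    (hκ2 : ∀ (i j : J) (T : Over V) (a : T ⟶ X i) (b : T ⟶ X j), Nonempty T.left → a ≫ κ i = b ≫ κ j → i = j) :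
    Nonempty (((Over.map v).op ⋙ (hP.toClass hG).subsF).RepresentableBy Y) := by
  refine representableBy_restrict v ?_
  obtain ⟨r, -⟩ := exists_representableBy' (𝒬 := restrict v (hP.toClass hG))
    (restrict_isLocal v (hP.toClass_isLocal hG)) (hP.famIn hG v hq) (hP.locIn hG v hconj) hN hne X π hπ
    (fun j => have := hsm j; smooth_of_isQuotient (hπ j)) Y κ hκ1 hκ2
  exact ⟨r⟩

end rep

end Good

/-- **The functor of Borel subgroups is represented by `G / B`** if `G_V` has a Borel subgroup `B` with quotient `X`. -/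
theorem representableBy_borel (hG : Red.IsReductive G) {V : Scheme.{u}} (v : V ⟶ S) {B : Over V} [GrpObj B]
    (b : B ⟶ Red.bc v G) (hb : Red.IsBorel b) {X : Over V} (π : Red.bc v G ⟶ X) (hπ : RedSub.IsQuotient b π) :
    Nonempty (((Over.map v).op ⋙ (good_isBorel.toClass hG).subsF).RepresentableBy X) := by
  have hGV : Red.IsReductive (Red.bc v G) := RedBcAny636.isReductive_bc v hG
  refine good_isBorel.representableBy hG v (J := PUnit.{u + 1}) (Q := fun _ => B) (q := fun _ => b) (fun _ => hb) ?_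
    (fun _ => ?_) (fun _ _ _ _ _ _ => rfl) (fun _ => X) (fun _ => π) (fun _ => hπ) (fun _ => hb.2.2.1) X
    (fun _ => 𝟙 X) (fun x => ⟨PUnit.unit, x, rfl⟩) (fun _ _ _ _ _ _ _ => rfl)
  · intro S' f H _ h hh s
    exact ⟨PUnit.unit, RedSub.H645.BorelEt.etConj_of_isBorel (RedBcAny636.isReductive_bc f hGV) _ _
      (RedSub.H648.BorBc.isBorel_bc f hGV hb) hh s⟩
  · exact Parab.PbKN751.isNormalizerOf_of_KN (fun K _ _ => RG.PbNorm890.kn_of (Parab.PbAll.k2 K)) hGV b
      (RedSub.H645.BorelEt.isParabolic_of_isBorel hb)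

end Groth.Agent.RedSub.H660.Classes
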