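import Groth.Agent.RedSub.H646.PtsRep
import Groth.Agent.Sga3B.Parab.IrrFib

/-!
# Closed subschemes of `G_{S'}` in an affine chart

`K : AffChart v G A`, `h : H ⟶ Red.bc f G` closed, `f : S' ⟶ S`, `c : Spec B ⟶ S'` over `S`, `B` an `R`-algebra.
`condC K h c : Cond R A B`; `exists_rep` : it is represented by an ideal `I` of `B ⊗ A` and
`Spec ((B ⊗ A) / I)` is the base change of `H` along `c`.
-/

set_option autoImplicit false
universe u

open CategoryTheory CategoryTheory.Limits AlgebraicGeometry Opposite MonoidalCategory CartesianMonoidalCategory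
  MonObj GrpObj
open TensorProduct
open Groth.Agent.Sga3B.Cell

namespace Groth.Agent.RedSub.H660.ChartPts

open Groth.Agent.RedSub.H647.SubPt Groth.Agent.RedSub.H646.DeltaRing
  Groth.Agent.RedSub.H646.InfPt Groth.Agent.RedSub.H646.PtsRep Groth.Agent.Sga3B Groth.Agent.Sga3B.MT
open Groth.Agent.Books.AffBridge

/-- A morphism of affine schemes which is bijective on ring-valued points is an isomorphism. -/
theorem isIso_of_bijective {X Y : Scheme.{u}} [IsAffine X] [IsAffine Y] (w : X ⟶ Y)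
    (h1 : ∀ (C : Type u) [CommRing C] (x x' : Spec (CommRingCat.of C) ⟶ X), x ≫ w = x' ≫ w → x = x')
    (h2 : ∀ (C : Type u) [CommRing C] (y : Spec (CommRingCat.of C) ⟶ Y), ∃ x, x ≫ w = y) : IsIso w := by
  obtain ⟨x, hx⟩ := h2 _ (Y.isoSpec.inv : Spec Γ(Y, ⊤) ⟶ Y)
  refine ⟨Y.isoSpec.hom ≫ x, ?_, ?_⟩
  · have h3 := h1 _ (X.isoSpec.inv ≫ w ≫ Y.isoSpec.hom ≫ x : Spec Γ(X, ⊤) ⟶ X) X.isoSpec.inv (by
      simp only [Category.assoc, hx, Iso.hom_inv_id, Category.comp_id])
    rw [← cancel_epi X.isoSpec.inv]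
    rw [Category.comp_id]
    exact h3
  · rw [Category.assoc, hx, Iso.hom_inv_id]

/-- `Spec` of a ring homomorphism -/
noncomputable abbrev sp {B C : Type u} [CommRing B] [CommRing C] (φ : B →+* C) :
    Spec (CommRingCat.of C) ⟶ Spec (CommRingCat.of B) := Spec.map (CommRingCat.ofHom φ)

theorem sp_comp {B C D : Type u} [CommRing B] [CommRing C] [CommRing D] (φ : B →+* C) (ψ : C →+* D) :
    sp (ψ.comp φ) = sp ψ ≫ sp φ := by
  rw [sp, CommRingCat.ofHom_comp, Spec.map_comp]

theorem exists_sp {B C : Type u} [CommRing B] [CommRing C] (x : Spec (CommRingCat.of C) ⟶ Spec (CommRingCat.of B)) :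
    ∃ φ : B →+* C, sp φ = x := ⟨(Spec.preimage x).hom, Spec.map_preimage x⟩

theorem sp_injective {B C : Type u} [CommRing B] [CommRing C] {φ ψ : B →+* C} (h : sp φ = sp ψ) : φ = ψ := by
  have h1 := Spec.map_injective h
  exact congrArg (fun t => t.hom) h1

variable {S : Scheme.{u}} {R : Type u} [CommRing R] {v : Spec (CommRingCat.of R) ⟶ S} {G : Over S} [GrpObj G]
  {A : Type u} [CommRing A] [Algebra R A] [PtGrp R A] (K : AffChart v G A)

section ptL

variable {C : Type u} [CommRing C] [Algebra R C]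

/-- the point of `G` as a morphism of schemes -/
noncomputable def ptL (g : Cell.Pt R A C) : Spec (CommRingCat.of C) ⟶ G.left := (K.pt C g).left

theorem ptL_map {D : Type u} [CommRing D] [Algebra R D] (φ : C →ₐ[R] D) (g : Cell.Pt R A C) :
    ptL K (Cell.Pt.map φ g) = sp φ.toRingHom ≫ ptL K g := by
  rw [ptL, K.nat]
  rfl

theorem ptL_hom (g : Cell.Pt R A C) : ptL K g ≫ G.hom = sp (algebraMap R C) ≫ v := Over.w (K.pt C g)

theorem exists_ptL (y : Spec (CommRingCat.of C) ⟶ G.left) (hy : y ≫ G.hom = sp (algebraMap R C) ≫ v) :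
    ∃ g : Cell.Pt R A C, ptL K g = y := by
  obtain ⟨g, hg⟩ := (K.pt C).surjective (Over.homMk y hy)
  exact ⟨g, congrArg (fun t => t.left) hg⟩

theorem ptL_injective {g g' : Cell.Pt R A C} (h : ptL K g = ptL K g') : g = g' :=
  (K.pt C).injective (Over.OverMorphism.ext h)

end ptL

section cond

variable {S' S'' : Scheme.{u}} {f : S' ⟶ S} {H : Over S'} (h : H ⟶ Red.bc f G)
  {B : Type u} [CommRing B] [Algebra R B]

/-- The condition on ring-valued points defined by `h` over `c : Spec B ⟶ S'`. -/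
def condC (c : Spec (CommRingCat.of B) ⟶ S') : Cond R A B := fun _ _ _ φ a =>
  H647.SubPt.Pt h (sp φ.toRingHom ≫ c) (ptL K (Cell.Pt.mk a))

theorem condC_bc {C : Type u} [CommRing C] [Algebra R C] (c : Spec (CommRingCat.of B) ⟶ S') (ψ : B →ₐ[R] C) :
    condC K h (sp ψ.toRingHom ≫ c) = (condC K h c).bc ψ := by
  funext D _ _ φ a
  have h1 : sp φ.toRingHom ≫ sp ψ.toRingHom ≫ c = sp (φ.comp ψ).toRingHom ≫ c := by
    rw [← Category.assoc, ← sp_comp]
    rfl
  exact congrArg (fun z => H647.SubPt.Pt h z (ptL K (Cell.Pt.mk a))) h1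

theorem condC_congr {f' : S' ⟶ S} {H' : Over S'} {h' : H' ⟶ Red.bc f' G}
    (e : ∀ (X : Scheme.{u}) (y : X ⟶ S') (a : X ⟶ G.left), H647.SubPt.Pt h y a ↔ H647.SubPt.Pt h' y a)
    (c : Spec (CommRingCat.of B) ⟶ S') : condC K h c = condC K h' c := by
  funext D _ _ φ a
  exact propext (e _ _ _)

theorem condC_bcSub (q : S'' ⟶ S') (c : Spec (CommRingCat.of B) ⟶ S'') :
    condC K (bcSub q h) c = condC K h (c ≫ q) := by
  funext D _ _ φ a
  refine propext ((pt_bcSub q h _ _).trans ?_)
  rw [Category.assoc]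
  rfl

variable {h}

theorem ptw (c : Spec (CommRingCat.of B) ⟶ S') (hc : c ≫ f = sp (algebraMap R B) ≫ v)
    {C : Type u} [CommRing C] [Algebra R C] (φ : B →ₐ[R] C) (g : Cell.Pt R A C) :
    ptL K g ≫ G.hom = (sp φ.toRingHom ≫ c) ≫ f := by
  rw [ptL_hom, Category.assoc, hc, ← Category.assoc, ← sp_comp]
  have h2 : φ.toRingHom.comp (algebraMap R B) = algebraMap R C := φ.comp_algebraMap
  rw [h2]

/-- the universal point of `G` over `B ⊗ A`, as a point of `G_{S'}` -/
noncomputable def mU (c : Spec (CommRingCat.of B) ⟶ S') (hc : c ≫ f = sp (algebraMap R B) ≫ v) :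
    Spec (CommRingCat.of (B ⊗[R] A)) ⟶ pullback G.hom f :=
  pullback.lift (ptL K (Cell.Pt.mk Algebra.TensorProduct.includeRight : Cell.Pt R A (B ⊗[R] A)))
    (sp (Algebra.TensorProduct.includeLeft : B →ₐ[R] B ⊗[R] A).toRingHom ≫ c)
    (ptw K c hc _ _)

theorem mU_fst (c : Spec (CommRingCat.of B) ⟶ S') (hc : c ≫ f = sp (algebraMap R B) ≫ v) :
    mU K c hc ≫ pullback.fst G.hom f =
      ptL K (Cell.Pt.mk Algebra.TensorProduct.includeRight : Cell.Pt R A (B ⊗[R] A)) := pullback.lift_fst _ _ _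

theorem mU_snd (c : Spec (CommRingCat.of B) ⟶ S') (hc : c ≫ f = sp (algebraMap R B) ≫ v) :
    mU K c hc ≫ pullback.snd G.hom f =
      sp (Algebra.TensorProduct.includeLeft : B →ₐ[R] B ⊗[R] A).toRingHom ≫ c := pullback.lift_snd _ _ _

omit [PtGrp R A] in
theorem lft_comp_left {C : Type u} [CommRing C] [Algebra R C] (φ : B →ₐ[R] C) (a : A →ₐ[R] C) :
    sp (lft φ a).toRingHom ≫ sp (Algebra.TensorProduct.includeLeft : B →ₐ[R] B ⊗[R] A).toRingHom =
      sp φ.toRingHom := by
  have e1 : (lft φ a).comp (Algebra.TensorProduct.includeLeft : B →ₐ[R] B ⊗[R] A) = φ :=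
    Algebra.TensorProduct.lift_comp_includeLeft _ _ _
  rw [← sp_comp]
  conv_rhs => rw [← e1]
  rfl

theorem comp_ptU {C : Type u} [CommRing C] [Algebra R C] (χ : B ⊗[R] A →ₐ[R] C) :
    sp χ.toRingHom ≫ ptL K (Cell.Pt.mk Algebra.TensorProduct.includeRight : Cell.Pt R A (B ⊗[R] A)) =
      ptL K (Cell.Pt.mk (χ.comp Algebra.TensorProduct.includeRight)) := (ptL_map K _ _).symm

theorem lft_comp_pt {C : Type u} [CommRing C] [Algebra R C] (φ : B →ₐ[R] C) (a : A →ₐ[R] C) :
    sp (lft φ a).toRingHom ≫ ptL K (Cell.Pt.mk Algebra.TensorProduct.includeRight : Cell.Pt R A (B ⊗[R] A)) =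
      ptL K (Cell.Pt.mk a) := by
  rw [comp_ptU]
  have e2 : (lft φ a).comp (Algebra.TensorProduct.includeRight : A →ₐ[R] B ⊗[R] A) = a :=
    Algebra.TensorProduct.lift_comp_includeRight φ a (fun _ _ => Commute.all _ _)
  rw [e2]

theorem lft_comp_mU (c : Spec (CommRingCat.of B) ⟶ S') (hc : c ≫ f = sp (algebraMap R B) ≫ v) {C : Type u}
    [CommRing C] [Algebra R C] (φ : B →ₐ[R] C) (a : A →ₐ[R] C) : sp (lft φ a).toRingHom ≫ mU K c hc =
      pullback.lift (ptL K (Cell.Pt.mk a)) (sp φ.toRingHom ≫ c) (ptw K c hc φ (Cell.Pt.mk a)) := by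
  apply pullback.hom_ext
  · rw [Category.assoc, mU_fst, lft_comp_pt]
    exact (pullback.lift_fst _ _ _).symm
  · rw [Category.assoc, mU_snd, ← Category.assoc, lft_comp_left]
    exact (pullback.lift_snd _ _ _).symm

/-- `Spec (B ⊗ A)` is the base change of `G_{S'}` along `c`. -/
theorem isPullback_mU [hG : IsAffineHom G.hom] (c : Spec (CommRingCat.of B) ⟶ S')
    (hc : c ≫ f = sp (algebraMap R B) ≫ v) :
    IsPullback (mU K c hc) (sp (Algebra.TensorProduct.includeLeft : B →ₐ[R] B ⊗[R] A).toRingHom)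
      (pullback.snd G.hom f) c := by
  refine ⟨⟨mU_snd K c hc⟩, ⟨?_⟩⟩
  let W := pullback (pullback.snd G.hom f) c
  have hG1 : IsAffineHom (pullback.snd G.hom f) := MorphismProperty.pullback_snd (P := @IsAffineHom) _ _ hG
  have hG2 : IsAffineHom (pullback.snd (pullback.snd G.hom f) c) :=
    MorphismProperty.pullback_snd (P := @IsAffineHom) _ _ hG1
  have hW : IsAffine W := isAffine_of_isAffineHom (pullback.snd (pullback.snd G.hom f) c)
  let z : Spec (CommRingCat.of (B ⊗[R] A)) ⟶ W := pullback.lift (mU K c hc) _ (mU_snd K c hc)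
  have hz1 : z ≫ pullback.fst (pullback.snd G.hom f) c = mU K c hc := pullback.lift_fst _ _ _
  have hz2 : z ≫ pullback.snd (pullback.snd G.hom f) c = sp _ := pullback.lift_snd _ _ _
  have hz : IsIso z := by
    apply isIso_of_bijective
    · intro C _ x x' hx
      obtain ⟨χ, rfl⟩ := exists_sp x
      obtain ⟨χ', rfl⟩ := exists_sp x'
      have hx1 : sp χ ≫ sp (Algebra.TensorProduct.includeLeft : B →ₐ[R] B ⊗[R] A).toRingHom =
          sp χ' ≫ sp (Algebra.TensorProduct.includeLeft : B →ₐ[R] B ⊗[R] A).toRingHom := by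
        rw [← hz2, ← Category.assoc, hx, Category.assoc]
      rw [← sp_comp, ← sp_comp] at hx1
      have hx2 := sp_injective hx1
      have hx3 : ∀ b : B, χ (b ⊗ₜ[R] 1) = χ' (b ⊗ₜ[R] 1) := fun b => DFunLike.congr_fun hx2 b
      let _ : Algebra R C := (χ.comp (algebraMap R (B ⊗[R] A))).toAlgebra
      let ξ : B ⊗[R] A →ₐ[R] C := { χ with commutes' := fun r => rfl }
      let ξ' : B ⊗[R] A →ₐ[R] C := { χ' with commutes' := fun r => (hx3 (algebraMap R B r)).symm }
      have hx4 : sp χ ≫ ptL K (Cell.Pt.mk Algebra.TensorProduct.includeRight : Cell.Pt R A (B ⊗[R] A)) =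
          sp χ' ≫ ptL K (Cell.Pt.mk Algebra.TensorProduct.includeRight : Cell.Pt R A (B ⊗[R] A)) := by
        rw [← mU_fst K c hc, ← hz1]
        simp only [← Category.assoc]
        rw [hx]
      have hx5 : ptL K (Cell.Pt.mk (ξ.comp Algebra.TensorProduct.includeRight)) =
          ptL K (Cell.Pt.mk (ξ'.comp Algebra.TensorProduct.includeRight)) := by
        rw [← comp_ptU, ← comp_ptU]
        exact hx4
      have hx6 := ptL_injective K hx5
      have hx7 : ξ = ξ' := by
        apply Algebra.TensorProduct.ext'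
        intro b a
        have e1 : ∀ ζ : B ⊗[R] A →ₐ[R] C, ζ (b ⊗ₜ[R] a) = ζ (b ⊗ₜ[R] 1) * ζ (1 ⊗ₜ[R] a) := by
          intro ζ
          rw [← map_mul, Algebra.TensorProduct.tmul_mul_tmul, _root_.mul_one, _root_.one_mul]
        rw [e1, e1]
        congr 1
        · exact hx3 b
        · exact congrArg (fun t : Cell.Pt R A C => t.hom a) hx6
      have hx8 : χ = χ' := congrArg (fun t : B ⊗[R] A →ₐ[R] C => t.toRingHom) hx7
      rw [hx8]
    · intro C _ y
      obtain ⟨φ, hφ⟩ := exists_sp (y ≫ pullback.snd (pullback.snd G.hom f) c)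
      let _ : Algebra R C := (φ.comp (algebraMap R B)).toAlgebra
      let φ' : B →ₐ[R] C := { φ with commutes' := fun r => rfl }
      have hφ' : sp φ'.toRingHom = y ≫ pullback.snd (pullback.snd G.hom f) c := hφ
      obtain ⟨g, hg⟩ := exists_ptL K (y ≫ pullback.fst (pullback.snd G.hom f) c ≫ pullback.fst G.hom f) (by
        have e1 : (y ≫ pullback.fst (pullback.snd G.hom f) c ≫ pullback.fst G.hom f) ≫ G.hom =
            (y ≫ pullback.snd (pullback.snd G.hom f) c) ≫ c ≫ f := by
          simp only [Category.assoc]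
          rw [pullback.condition, pullback.condition_assoc]
        refine e1.trans ?_
        rw [← hφ, hc, ← Category.assoc, ← sp_comp])
      refine ⟨sp (lft φ' g.hom).toRingHom, ?_⟩
      apply pullback.hom_ext
      · rw [Category.assoc, hz1, lft_comp_mU]
        apply pullback.hom_ext
        · rw [pullback.lift_fst, Category.assoc]
          exact hg
        · rw [pullback.lift_snd, Category.assoc, pullback.condition, ← Category.assoc, ← hφ']
      · rw [Category.assoc, hz2, lft_comp_left]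
        exact hφ'
  refine IsLimit.ofIsoLimit (limit.isLimit (cospan (pullback.snd G.hom f) c)) (PullbackCone.ext (asIso z).symm ?_ ?_)
  · change _ = inv z ≫ mU K c hc
    rw [IsIso.eq_inv_comp]
    exact hz1
  · change _ = inv z ≫ _
    rw [IsIso.eq_inv_comp]
    exact hz2

/-- The condition defined by a closed subscheme `h` is represented by an ideal `I` of `B ⊗ A`, and `Spec ((B ⊗ A)/I)` is
the base change of `H` along `c`. -/
theorem exists_rep [IsAffineHom G.hom] [IsClosedImmersion h.left] (c : Spec (CommRingCat.of B) ⟶ S')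
    (hc : c ≫ f = sp (algebraMap R B) ≫ v) : ∃ I : Ideal (B ⊗[R] A), IsRep (condC K h c) I ∧
      ∃ (j : Spec (CommRingCat.of ((B ⊗[R] A) ⧸ I)) ⟶ H.left),
        IsPullback j (sp (algebraMap B ((B ⊗[R] A) ⧸ I))) H.hom c := by
  let im : pullback h.left (mU K c hc) ⟶ Spec (CommRingCat.of (B ⊗[R] A)) := pullback.snd h.left (mU K c hc)
  have him : IsClosedImmersion im := inferInstanceAs (IsClosedImmersion (pullback.snd h.left (mU K c hc)))
  obtain ⟨I, e, he⟩ := IsClosedImmersion.Spec_iff.1 him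
  refine ⟨I, ?_, e.inv ≫ pullback.fst h.left (mU K c hc), ?_⟩
  · intro C _ _ φ a
    refine (pt_iff_lift h _ _ (ptw K c hc φ (Cell.Pt.mk a))).trans ?_
    rw [← lft_comp_mU K c hc]
    constructor
    · rintro ⟨p, hp⟩ x hx
      obtain ⟨ψ, hψ⟩ := exists_sp (pullback.lift p (sp (lft φ a).toRingHom) hp ≫ e.hom)
      have h1 : sp ψ ≫ sp (Ideal.Quotient.mk I) = sp (lft φ a).toRingHom := by
        have h2 : pullback.lift p (sp (lft φ a).toRingHom) hp ≫ im = sp (lft φ a).toRingHom := pullback.lift_snd _ _ _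
        rw [he, ← Category.assoc, ← hψ] at h2
        exact h2
      rw [← sp_comp] at h1
      have h3 := DFunLike.congr_fun (sp_injective h1) x
      have h4 : ψ (Ideal.Quotient.mk I x) = lft φ a x := h3
      rw [← h4, Ideal.Quotient.eq_zero_iff_mem.2 hx, map_zero]
    · intro hx
      refine ⟨sp (Ideal.Quotient.lift I (lft φ a).toRingHom hx) ≫ e.inv ≫ pullback.fst h.left (mU K c hc), ?_⟩
      have h5 : e.inv ≫ im = sp (Ideal.Quotient.mk I) := by
        rw [he, Iso.inv_hom_id_assoc]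
      rw [Category.assoc, Category.assoc, pullback.condition]
      have h6 : e.inv ≫ pullback.snd h.left (mU K c hc) ≫ mU K c hc = sp (Ideal.Quotient.mk I) ≫ mU K c hc := by
        rw [← h5, Category.assoc]
      rw [h6, ← Category.assoc, ← sp_comp]
      rfl
  · have p1 : IsPullback (pullback.fst h.left (mU K c hc)) im h.left (mU K c hc) := IsPullback.of_hasPullback _ _
    have p2 := p1.paste_vert (isPullback_mU K c hc)
    have p3 : IsPullback (pullback.fst h.left (mU K c hc))
        (im ≫ sp (Algebra.TensorProduct.includeLeft : B →ₐ[R] B ⊗[R] A).toRingHom) H.hom c := by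
      have e3 : h.left ≫ pullback.snd G.hom f = H.hom := left_snd h
      rw [← e3]
      exact p2
    refine IsPullback.of_iso p3 e (Iso.refl _) (Iso.refl _) (Iso.refl _) ?_ ?_ ?_ ?_
    · simp
    · rw [Iso.refl_hom, Category.comp_id, he, Category.assoc]
      congr 1
      change sp _ ≫ sp _ = sp _
      rw [← sp_comp]
      rfl
    · simp
    · simp

end cond

section props

variable {B : Type u} [CommRing B] {D : Type u} [CommRing D] [Algebra B D] {S' : Scheme.{u}} {H : Over S'}
  {c : Spec (CommRingCat.of B) ⟶ S'} {j : Spec (CommRingCat.of D) ⟶ H.left}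

theorem smooth_of_isPullback [h : Smooth H.hom] (hpb : IsPullback j (sp (algebraMap B D)) H.hom c) :
    Algebra.Smooth B D := by
  have h1 : Smooth (sp (algebraMap B D)) := MorphismProperty.of_isPullback (P := @Smooth) hpb h
  have h2 : RingHom.Smooth (algebraMap B D) := (HasRingHomProperty.Spec_iff (P := @Smooth)).1 h1
  rwa [RingHom.smooth_algebraMap] at h2

/-- Connectedness of the geometric fibres. -/
theorem connected_of_isPullback [GrpObj H] [IsAffineHom H.hom] [Smooth H.hom]
    (hH : ∀ s : S', ConnectedSpace (Red.geomFibre s H).left) (hpb : IsPullback j (sp (algebraMap B D)) H.hom c)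
    (k : Type u) [Field k] [IsAlgClosed k] [Algebra B k] : ConnectedSpace (PrimeSpectrum (k ⊗[B] D)) := by
  have h1 : IsPullback (sp (Algebra.TensorProduct.includeRight : D →ₐ[B] k ⊗[B] D).toRingHom)
      (sp (algebraMap k (k ⊗[B] D))) (sp (algebraMap B D)) (sp (algebraMap B k)) :=
    (isPullback_SpecMap_of_isPushout _ _ _ _ (CommRingCat.isPushout_tensorProduct B k D)).flip
  have h2 := h1.paste_horiz hpb
  have h3 : IsIntegral (Red.bc (sp (algebraMap B k) ≫ c) H).left := Parab.IrrFib.isIntegral_fibre H hH _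
  let e : Spec (CommRingCat.of (k ⊗[B] D)) ≅ (Red.bc (sp (algebraMap B k) ≫ c) H).left := h2.isoPullback
  have h4 : IsIntegral (Spec (CommRingCat.of (k ⊗[B] D))) := Parab.IrrFib.isIntegral_of_iso e
  have h5 : IrreducibleSpace (Spec (CommRingCat.of (k ⊗[B] D))) := inferInstance
  exact (inferInstance : ConnectedSpace (Spec (CommRingCat.of (k ⊗[B] D))))

end props

end Groth.Agent.RedSub.H660.ChartPts
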