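import Groth.Agent.RedSub.H660.QuotSheaf
import Groth.Agent.RedSub.H647.SubF
import Groth.Agent.Redsub.H649.ConjLoc

/-!
# Subgroups which are étale locally conjugate to one of the `Q j`

`exists_representableBy` : let `𝒬` be an étale local class of subgroups of `G`, all of whose members are étale locally
conjugate to one of the `q j : Q j ⟶ G`.  If the `q j` are equal to their normalisers, pairwise nowhere conjugate, and
`G / Q j` is represented by `X j` with `G ⟶ X j` smooth, then `∐ X j` represents the functor of subgroups of class `𝒬`.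

`restrict v 𝒬` : the class of subgroups of `G_V`; `representableBy_restrict`.
-/

set_option autoImplicit false
universe u

open CategoryTheory CategoryTheory.Limits AlgebraicGeometry Opposite MonoidalCategory CartesianMonoidalCategory
  MonObj GrpObj

namespace Groth.Agent.RedSub.H660.ConjRep

open Groth.Agent.Sga3B Groth.Agent.Sga3B.BcPts Groth.Agent.Sga3B.MT Groth.Agent.Sga3B.RepDescent
open Groth.Agent.RedSub.H647.SubPt Groth.Agent.RedSub.H647.SubF
open Groth.Agent.Redsub.H649.ConjPts (fam InC taut)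

variable {S : Scheme.{u}}

/-- `∐ X j`, over `S` -/
noncomputable def sig {J : Type u} (X : J → Over S) : Over S := Over.mk (Sigma.desc fun j => (X j).hom)

/-- the inclusion `X j ⟶ ∐ X j` -/
noncomputable def sigι {J : Type u} (X : J → Over S) (j : J) : X j ⟶ sig X :=
  Over.homMk (Sigma.ι (fun j => (X j).left) j) (Sigma.ι_desc _ _)

instance {J : Type u} (X : J → Over S) (j : J) : IsOpenImmersion (sigι X j).left :=
  inferInstanceAs (IsOpenImmersion (Sigma.ι (fun j => (X j).left) j))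

instance {J : Type u} (X : J → Over S) (j : J) : Mono (sigι X j) :=
  Sga3C.ClosedSub.mono_of_left (sigι X j)

lemma exists_sigι {J : Type u} (X : J → Over S) (x : (sig X).left) : ∃ (j : J) (y : (X j).left),
    (sigι X j).left y = x := by
  obtain ⟨j, y, hy⟩ := (sigmaOpenCover (fun j => (X j).left)).exists_eq x
  exact ⟨j, y, hy⟩

lemma eq_of_sigι_eq {J : Type u} (X : J → Over S) {i j : J} {T : Over S} (t : T.left) (a : T ⟶ X i)
    (b : T ⟶ X j) (h : a ≫ sigι X i = b ≫ sigι X j) : i = j := by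
  by_contra hij
  have h1 := disjoint_opensRange_sigmaι (fun j => (X j).left) i j hij
  have h2 : (sigι X i).left (a.left t) = (sigι X j).left (b.left t) := by
    rw [← Scheme.Hom.comp_apply, ← Scheme.Hom.comp_apply, ← Over.comp_left, ← Over.comp_left, h]
  have h3 : (sigι X i).left (a.left t) ∈
      (Sigma.ι (fun j => (X j).left) i).opensRange ⊓ (Sigma.ι (fun j => (X j).left) j).opensRange :=
    ⟨⟨_, rfl⟩, ⟨b.left t, h2.symm⟩⟩
  rw [h1.eq_bot] at h3
  exact h3.elim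

/-- a family of smooth morphisms, jointly surjective, generates for the étale topology -/
lemma gen_of_smooth {J : Type u} (P : J → Over S) (X : Over S) (π : ∀ i, P i ⟶ X)
    (h1 : ∀ i, Smooth (π i).left) (h2 : ∀ x : X.left, ∃ (i : J) (p : (P i).left), (π i).left p = x)
    (T : Over S) (x : T ⟶ X) (t : T.left) : ∃ (T' : Over S) (f : T' ⟶ T), Etale f.left ∧
      t ∈ Set.range f.left ∧ ∃ (i : J) (a : T' ⟶ P i), a ≫ π i = f ≫ x := by
  obtain ⟨i, p, hp⟩ := h2 (x.left t)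
  have := h1 i
  obtain ⟨z, hz, -⟩ := Scheme.Pullback.exists_preimage_pullback (f := x.left) (g := (π i).left) t p hp.symm
  obtain ⟨V, g, s', hg, hs', h, hh⟩ := FlatA.EtaleSections.exists_section (pullback.fst x.left (π i).left) t
    ⟨z, hz⟩
  refine ⟨Over.mk (g ≫ T.hom), Over.homMk g, hg, ⟨s', hs'⟩, i, Over.homMk (h ≫ pullback.snd _ _) ?_, ?_⟩
  · change (h ≫ pullback.snd x.left (π i).left) ≫ (P i).hom = g ≫ T.hom
    rw [← hh, ← Over.w (π i), Category.assoc, ← pullback.condition_assoc, Over.w x, Category.assoc]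
  · apply Over.OverMorphism.ext
    change (h ≫ pullback.snd x.left (π i).left) ≫ (π i).left = g ≫ x.left
    rw [← hh, Category.assoc, ← pullback.condition, Category.assoc]

section points

variable {G : Over S}

/-- points over `S`-schemes suffice -/
lemma same_iff {S₁ S₂ : Scheme.{u}} {f₁ : S₁ ⟶ S} {f₂ : S₂ ⟶ S} (g : S₁ ⟶ S₂) (hg : g ≫ f₂ = f₁)
    {H₁ : Over S₁} (h₁ : H₁ ⟶ Red.bc f₁ G) {H₂ : Over S₂} (h₂ : H₂ ⟶ Red.bc f₂ G) :
    (∀ (X : Scheme.{u}) (y : X ⟶ S₁) (γ : X ⟶ G.left), Pt h₁ y γ ↔ Pt h₂ (y ≫ g) γ) ↔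
      ∀ (X : Over S) (y : X ⟶ Over.mk f₁) (γ : X ⟶ G), Pt h₁ y.left γ.left ↔ Pt h₂ (y.left ≫ g) γ.left := by
  constructor
  · intro h X y γ
    exact h _ _ _
  · intro h X y γ
    by_cases w : γ ≫ G.hom = y ≫ f₁
    · let X' : Over S := Over.mk (y ≫ f₁)
      exact h X' (Over.homMk y) (Over.homMk γ w)
    · constructor
      · intro h2
        exact (w h2.w.symm).elim
      · intro h2
        refine (w ?_).elim
        rw [← h2.w, Category.assoc, hg]

lemma same_iff_id {S₁ : Scheme.{u}} {f₁ : S₁ ⟶ S} {H₁ H₂ : Over S₁} (h₁ : H₁ ⟶ Red.bc f₁ G)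
    (h₂ : H₂ ⟶ Red.bc f₁ G) :
    (∀ (X : Scheme.{u}) (y : X ⟶ S₁) (γ : X ⟶ G.left), Pt h₁ y γ ↔ Pt h₂ y γ) ↔
      ∀ (X : Over S) (y : X ⟶ Over.mk f₁) (γ : X ⟶ G), Pt h₁ y.left γ.left ↔ Pt h₂ y.left γ.left := by
  constructor
  · intro h X y γ
    exact h _ _ _
  · intro h X y γ
    by_cases w : γ ≫ G.hom = y ≫ f₁
    · let X' : Over S := Over.mk (y ≫ f₁)
      exact h X' (Over.homMk y) (Over.homMk γ w)
    · exact ⟨fun h2 => (w h2.w.symm).elim, fun h2 => (w h2.w.symm).elim⟩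

variable [GrpObj G]

lemma pt_fam_iff {S' : Scheme.{u}} {f : S' ⟶ S} {B : Over S} (i : B ⟶ G) (g₀ : Over.mk f ⟶ G) {X : Over S}
    (a : X ⟶ Over.mk f) (γ : X ⟶ G) : Pt (fam i g₀) a.left γ.left ↔ InC i (a ≫ g₀) γ := by
  rw [← memAt_iff_pt, Groth.Agent.Redsub.H649.ConjPts.memAt_fam]

/-- the point `T ⟶ G` as a morphism `Over.mk T.hom ⟶ G` -/
noncomputable def un {T : Over S} (a : T ⟶ G) : Over.mk T.hom ⟶ G := Over.homMk a.left (Over.w a)

lemma same_fam_iff {T : Over S} {B B' : Over S} (i : B ⟶ G) (i' : B' ⟶ G) (a b : T ⟶ G) :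
    (∀ (X : Scheme.{u}) (y : X ⟶ T.left) (γ : X ⟶ G.left), Pt (fam i (un a)) y γ ↔ Pt (fam i' (un b)) y γ) ↔
      ∀ (X : Over S) (x : X ⟶ T) (γ : X ⟶ G), InC i (x ≫ a) γ ↔ InC i' (x ≫ b) γ := by
  rw [same_iff_id]
  constructor
  · intro h X x γ
    have h1 := h X (Over.homMk x.left (Over.w x)) γ
    rw [pt_fam_iff, pt_fam_iff] at h1
    exact h1
  · intro h X y γ
    rw [pt_fam_iff, pt_fam_iff]
    exact h X (Over.homMk y.left (Over.w y)) γ

lemma same_taut_iff {T : Over S} {B : Over S} (i : B ⟶ G) (a : T ⟶ G) (X : Scheme.{u}) (y : X ⟶ T.left)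
    (γ : X ⟶ G.left) : Pt (fam i (un a)) y γ ↔ Pt (fam i (taut G)) (y ≫ a.left) γ := by
  refine (same_iff a.left (Over.w a) (fam i (un a)) (fam i (taut G))).2 (fun X y γ => ?_) X y γ
  rw [pt_fam_iff]
  have h1 := pt_fam_iff i (taut G) (Over.homMk (y.left ≫ a.left) (by
    rw [Category.assoc]
    exact (congrArg (y.left ≫ ·) (Over.w a)).trans (Over.w y)) : X ⟶ Over.mk G.hom) γ
  refine Iff.trans ?_ h1.symm
  have e : y ≫ un a = (Over.homMk (y.left ≫ a.left) (by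
    rw [Category.assoc]
    exact (congrArg (y.left ≫ ·) (Over.w a)).trans (Over.w y)) : X ⟶ Over.mk G.hom) ≫ taut G := by
    apply Over.OverMorphism.ext
    exact (Category.comp_id _).symm
  rw [e]

/-- `InC` and conjugacy -/
lemma inC_iff_conjEq {T : Over S} {B B' : Over S} (i : B ⟶ G) (i' : B' ⟶ G) (a b : T ⟶ G) :
    (∀ (X : Over S) (x : X ⟶ T) (γ : X ⟶ G), InC i (x ≫ a) γ ↔ InC i' (x ≫ b) γ) ↔
      RedSub.ConjEq i i' (b⁻¹ * a) := by
  constructor
  · intro h X x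
    constructor
    · intro t
      obtain ⟨t', ht'⟩ := (h X x ((x ≫ a) * (t ≫ i) * (x ≫ a)⁻¹)).1 ⟨t, by group⟩
      refine ⟨t', ?_⟩
      rw [ht', MonObj.comp_mul, GrpObj.comp_inv]
      group
    · intro t
      obtain ⟨t', ht'⟩ := (h X x ((x ≫ b) * (t ≫ i') * (x ≫ b)⁻¹)).2 ⟨t, by group⟩
      refine ⟨t', ?_⟩
      rw [ht', MonObj.comp_mul, GrpObj.comp_inv]
      group
  · intro h X x γ
    obtain ⟨h1, h2⟩ := h X x
    simp only [MonObj.comp_mul, GrpObj.comp_inv] at h1 h2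
    constructor
    · rintro ⟨t, ht⟩
      obtain ⟨t', ht'⟩ := h1 t
      refine ⟨t', ?_⟩
      rw [← ht', ht]
      group
    · rintro ⟨t, ht⟩
      obtain ⟨t', ht'⟩ := h2 t
      refine ⟨t', ?_⟩
      rw [← ht', ht]
      group

end points

variable {G : Over S} [GrpObj G]

section main

variable (𝒬 : SubClass G) {J : Type u} (Q : J → Over S) [∀ j, GrpObj (Q j)] (q : ∀ j, Q j ⟶ G)

/-- the conjugates of the `q j` are of class `𝒬` -/
def FamIn : Prop := ∀ (j : J) {S' : Scheme.{u}} (f : S' ⟶ S) (g₀ : Over.mk f ⟶ G), 𝒬.Q f (fam (q j) g₀)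

/-- the subgroups of class `𝒬` are étale locally conjugate to one of the `q j` -/
def LocIn : Prop := ∀ {S' : Scheme.{u}} (f : S' ⟶ S) {H : Over S'} [GrpObj H] (h : H ⟶ Red.bc f G), 𝒬.Q f h →
  ∀ s : S', ∃ (V : Scheme.{u}) (π : V ⟶ S'), Etale π ∧ s ∈ Set.range π ∧ ∃ (j : J) (g₀ : Over.mk (π ≫ f) ⟶ G),
    ∀ (X : Scheme.{u}) (y : X ⟶ V) (γ : X ⟶ G.left), Pt (fam (q j) g₀) y γ ↔ Pt h (y ≫ π) γ

variable {𝒬 Q q}

/-- the universal conjugate of `q j` -/
noncomputable def cl (hfam : FamIn 𝒬 Q q) (j : J) : 𝒬.subsF.obj (op G) := 𝒬.ofSub (hfam j G.hom (taut G))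

lemma map_cl (hfam : FamIn 𝒬 Q q) (j : J) {T : Over S} (a : T ⟶ G) :
    𝒬.subsF.map a.op (cl hfam j) = 𝒬.ofSub (hfam j T.hom (un a)) := by
  rw [cl, 𝒬.map_ofSub_eq_iff]
  exact same_taut_iff (q j) a

lemma gen_cl (hfam : FamIn 𝒬 Q q) (hloc : LocIn 𝒬 Q q) : QuotSheaf.Gen 𝒬.subsF (fun _ : J => G) (cl hfam) := by
  intro T x t
  obtain ⟨H, _, h, hQ, rfl⟩ := 𝒬.exists_ofSub x
  obtain ⟨V, π, h1, h2, j, g₀, hg₀⟩ := hloc T.hom h hQ t
  refine ⟨Over.mk (π ≫ T.hom), Over.homMk π, h1, h2, j, g₀, ?_⟩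
  rw [map_cl, eq_comm, 𝒬.map_ofSub_eq_iff]
  exact hg₀

lemma map_cl_eq_iff (hfam : FamIn 𝒬 Q q) (i j : J) {T : Over S} (a b : T ⟶ G) :
    𝒬.subsF.map a.op (cl hfam i) = 𝒬.subsF.map b.op (cl hfam j) ↔ RedSub.ConjEq (q i) (q j) (b⁻¹ * a) := by
  rw [map_cl, map_cl, 𝒬.ofSub_eq_iff, same_fam_iff, inC_iff_conjEq]

lemma conjEq_self_iff {j : J} (hN : Red.IsNormalizerOf (q j) (q j)) {T : Over S} (c : T ⟶ G) :
    RedSub.ConjEq (q j) (q j) c ↔ ∃ z : T ⟶ Q j, z ≫ q j = c := by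
  rw [hN.2.2]
  constructor
  · intro h X x t
    exact ⟨(h X x).1 t, (h X x).2 t⟩
  · intro h X x
    exact ⟨fun t => (h X x t).1, fun t => (h X x t).2⟩

omit [∀ j, GrpObj (Q j)] in
/-- the fibres of a quotient map -/
lemma comp_quot_eq_iff {j : J} {X : Over S} {π : G ⟶ X} (hπ : RedSub.IsQuotient (q j) π) {T : Over S}
    (a b : T ⟶ G) : a ≫ π = b ≫ π ↔ ∃ z : T ⟶ Q j, z ≫ q j = b⁻¹ * a := by
  have hμ : (G ◁ q j) ≫ μ[G] = fst G (Q j) * (snd G (Q j) ≫ q j) := by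
    rw [Hom.mul_def]
    congr 1
  obtain ⟨-, -, -, hpb⟩ := hπ
  rw [hμ] at hpb
  constructor
  · intro h
    obtain ⟨l, h1, h2⟩ : ∃ l : T ⟶ G ⊗ Q j, l ≫ fst _ _ = b ∧ l ≫ (fst G (Q j) * (snd G (Q j) ≫ q j)) = a :=
      ⟨_, hpb.lift_fst b a h.symm, hpb.lift_snd b a h.symm⟩
    refine ⟨l ≫ snd _ _, ?_⟩
    rw [MonObj.comp_mul, h1] at h2
    rw [Category.assoc, ← h2]
    group
  · rintro ⟨z, hz⟩
    have h1 := congrArg (lift b z ≫ ·) hpb.w
    rw [← Category.assoc, ← Category.assoc, MonObj.comp_mul, lift_fst, ← Category.assoc _ (snd _ _), lift_snd, hz]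
      at h1
    rw [h1]
    group

/-- **Subgroups étale locally conjugate to one of the `q j` are represented by `∐ G / Q j`**, for any `Y` which is
the disjoint union of the `X j = G / Q j`. -/
theorem exists_representableBy' (hloc : 𝒬.IsLocal (fun {_ _ _} q => SubClass.EtCov q)) (hfam : FamIn 𝒬 Q q)
    (hlocIn : LocIn 𝒬 Q q) (hN : ∀ j, Red.IsNormalizerOf (q j) (q j))
    (hne : ∀ (i j : J) (T : Over S) (c : T ⟶ G), Nonempty T.left → RedSub.ConjEq (q i) (q j) c → i = j)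
    (X : J → Over S) (π : ∀ j, G ⟶ X j) (hπ : ∀ j, RedSub.IsQuotient (q j) (π j))
    (hsm : ∀ j, Smooth (π j).left) (Y : Over S) (κ : ∀ j, X j ⟶ Y) [∀ j, IsOpenImmersion (κ j).left]
    (hκ1 : ∀ y : Y.left, ∃ (j : J) (x : (X j).left), (κ j).left x = y)
    (hκ2 : ∀ (i j : J) (T : Over S) (a : T ⟶ X i) (b : T ⟶ X j), Nonempty T.left → a ≫ κ i = b ≫ κ j → i = j) :
    ∃ r : 𝒬.subsF.RepresentableBy Y, ∀ j, r.homEquiv (π j ≫ κ j) = cl hfam j := by
  have hF : IsEtSheaf 𝒬.subsF := 𝒬.isEtSheaf_subsF hloc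
  have hmono : ∀ j, Mono (κ j) := fun j => Sga3C.ClosedSub.mono_of_left (κ j)
  refine QuotSheaf.exists_representableBy hF (fun _ : J => G) Y (fun j => π j ≫ κ j) (cl hfam)
    (gen_of_smooth _ _ _ ?_ ?_) (gen_cl hfam hlocIn) ?_
  · intro j
    have := hsm j
    rw [Over.comp_left]
    infer_instance
  · intro x
    obtain ⟨j, y, rfl⟩ := hκ1 x
    have := (hπ j).1
    obtain ⟨z, rfl⟩ := (π j).left.surjective y
    exact ⟨j, z, by rw [Over.comp_left, Scheme.Hom.comp_apply]⟩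
  · intro i j T a b
    by_cases hT : Nonempty T.left
    · constructor
      · intro h
        simp only [← Category.assoc] at h
        obtain rfl := hκ2 i j T _ _ hT h
        rw [cancel_mono] at h
        rw [map_cl_eq_iff, conjEq_self_iff (hN i), ← comp_quot_eq_iff (hπ i), h]
      · intro h
        rw [map_cl_eq_iff] at h
        obtain rfl := hne i j T _ hT h
        rw [conjEq_self_iff (hN i), ← comp_quot_eq_iff (hπ i)] at h
        simp only [← Category.assoc, h]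
    · rw [not_nonempty_iff] at hT
      have h1 : (a ≫ π i ≫ κ i) = (b ≫ π j ≫ κ j) := by
        apply Over.OverMorphism.ext
        exact (isInitialOfIsEmpty (X := T.left)).hom_ext _ _
      have h2 : 𝒬.subsF.map a.op (cl hfam i) = 𝒬.subsF.map b.op (cl hfam j) :=
        QuotSheaf.sheaf_ext hF (K := PEmpty) (fun k => k.elim) (fun k => k.elim) (fun k => k.elim)
          (fun t => (hT.false t).elim) (fun k => k.elim)
      exact ⟨fun _ => h2, fun _ => h1⟩

/-- **Subgroups étale locally conjugate to one of the `q j` are represented by `∐ G / Q j`.** -/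
theorem exists_representableBy (hloc : 𝒬.IsLocal (fun {_ _ _} q => SubClass.EtCov q)) (hfam : FamIn 𝒬 Q q)
    (hlocIn : LocIn 𝒬 Q q) (hN : ∀ j, Red.IsNormalizerOf (q j) (q j))
    (hne : ∀ (i j : J) (T : Over S) (c : T ⟶ G), Nonempty T.left → RedSub.ConjEq (q i) (q j) c → i = j)
    (X : J → Over S) (π : ∀ j, G ⟶ X j) (hπ : ∀ j, RedSub.IsQuotient (q j) (π j))
    (hsm : ∀ j, Smooth (π j).left) :
    ∃ r : 𝒬.subsF.RepresentableBy (sig X), ∀ j, r.homEquiv (π j ≫ sigι X j) = cl hfam j :=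
  exists_representableBy' hloc hfam hlocIn hN hne X π hπ hsm (sig X) (sigι X) (exists_sigι X)
    fun _ _ _ a b ⟨t⟩ h => eq_of_sigι_eq X t a b h

/-- **One conjugacy class**: subgroups étale locally conjugate to `q` are represented by `G / Q`. -/
theorem exists_representableBy_one {Q : Over S} [GrpObj Q] {q : Q ⟶ G}
    (hloc : 𝒬.IsLocal (fun {_ _ _} q => SubClass.EtCov q))
    (hfam : FamIn 𝒬 (fun _ : PUnit.{u + 1} => Q) (fun _ => q))
    (hlocIn : LocIn 𝒬 (fun _ : PUnit.{u + 1} => Q) (fun _ => q)) (hN : Red.IsNormalizerOf q q)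
    (X : Over S) (π : G ⟶ X) (hπ : RedSub.IsQuotient q π) (hsm : Smooth π.left) :
    Nonempty (𝒬.subsF.RepresentableBy X) := by
  obtain ⟨r, -⟩ := exists_representableBy' (𝒬 := 𝒬) hloc hfam hlocIn (fun _ => hN) (fun _ _ _ _ _ _ => rfl)
    (fun _ => X) (fun _ => π) (fun _ => hπ) (fun _ => hsm) X (fun _ => 𝟙 X) (fun x => ⟨PUnit.unit, x, rfl⟩)
    (fun _ _ _ _ _ _ _ => rfl)
  exact ⟨r⟩

end main

/-- The quotient map by a smooth subgroup is smooth. -/
theorem smooth_of_isQuotient {Q X : Over S} [GrpObj Q] {q : Q ⟶ G} {π : G ⟶ X}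
    (hπ : RedSub.IsQuotient q π) [Smooth Q.hom] : Smooth π.left := by
  obtain ⟨h1, h2, h3, hpb⟩ := hπ
  have hfst : Smooth (fst G Q).left := inferInstanceAs (Smooth (pullback.fst G.hom Q.hom))
  have hpb' : IsPullback (fst G Q).left ((G ◁ q) ≫ μ[G]).left π.left π.left := hpb.map (Over.forget S)
  apply MorphismProperty.of_pullback_fst_of_descendsAlong (P := @Smooth)
    (Q := @Surjective ⊓ @Flat ⊓ @LocallyOfFinitePresentation) (f := π.left) (g := π.left) ⟨⟨h1, h2⟩, h3⟩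
  exact (MorphismProperty.arrow_mk_iso_iff (@Smooth) (Arrow.isoMk hpb'.isoPullback (Iso.refl _) (by
      simp))).mp hfst

end Groth.Agent.RedSub.H660.ConjRep
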