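import Groth.Agent.RedSub.H660.DetG

/-!
# Finite families of conjugacy classes of subgroups are determined by infinitesimal points

`detG_of_family` : if, over `w : Spec R' ⟶ S` étale surjective, the subgroups of class `𝒬` are étale locally conjugate to
one of finitely many smooth closed subgroups `q j` with connected geometric fibres, then `DetG 𝒬 n` for some `n`.
-/

set_option autoImplicit false
universe u

open CategoryTheory CategoryTheory.Limits AlgebraicGeometry Opposite MonoidalCategory CartesianMonoidalCategory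
  MonObj GrpObj
open TensorProduct
open Groth.Agent.Sga3B.Cell

namespace Groth.Agent.RedSub.H660.DetFam

open Groth.Agent.RedSub.H647.SubPt Groth.Agent.RedSub.H647.SubF Groth.Agent.RedSub.H647.SubF.SubClass
  Groth.Agent.RedSub.H646.DeltaRing
  Groth.Agent.RedSub.H646.InfPt Groth.Agent.RedSub.H646.PtsRep Groth.Agent.RedSub.H646.DeltaSch
  Groth.Agent.Sga3B Groth.Agent.Sga3B.BcPts Groth.Agent.Sga3B.MT
open Groth.Agent.RedSub.H646.StabIdeal Groth.Agent.RedSub.H646.ConjInf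
open Groth.Agent.Books.AffBridge Groth.Agent.RedSub.H660.ChartPts Groth.Agent.RedSub.H660.Restrict
  Groth.Agent.RedSub.H660.DetG Groth.Agent.RedSub.H660.ConjRep
open Groth.Agent.Redsub.H649.ConjPts (fam InC taut)

section ring

variable {R A : Type u} [CommRing R] [CommRing A] [Algebra R A] [PtGrp R A] {R₀ : Type u} [CommRing R₀] [Algebra R R₀]

theorem inf_mono {n m : ℕ} (h : n ≤ m) {C : Type u} [CommRing C] [Algebra R C] {c : Cell.Pt R A C} (hc : Inf n c) :
    Inf m c := Kill.mono (Ideal.pow_le_pow_right (Nat.succ_le_succ h)) hc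

theorem detects_mono {E E' : Cond R A R₀} {n m : ℕ} (h : n ≤ m) (hn : Detects E E' n) : Detects E E' m :=
  fun B _ _ ρ g hg => hn B ρ g fun C _ _ φ c hc hi => hg C φ c hc (inf_mono h hi)

/-- Conjugates of `E` and of `E'` with the same infinitesimal points are equal. -/
theorem conj_le_pair {E E' : Cond R A R₀} {n : ℕ} (hn : Detects E E' n) {B : Type u} [CommRing B] [Algebra R B]
    (ρ : R₀ →ₐ[R] B) (g₁ g₂ : Cell.Pt R A B)
    (h : ∀ (C : Type u) [CommRing C] [Algebra R C] (φ : B →ₐ[R] C) (c : Cell.Pt R A C), Inf n c →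
      (conjE E ρ g₁ C φ c → conjE E' ρ g₂ C φ c)) :
    ∀ (C : Type u) [CommRing C] [Algebra R C] (φ : B →ₐ[R] C) (c : Cell.Pt R A C),
      conjE E ρ g₁ C φ c → conjE E' ρ g₂ C φ c := by
  intro C _ _ φ c hc
  have h1 := hn B ρ (g₂⁻¹ * g₁) (fun C _ _ φ c hc hi => by
    have h2 := h C φ (Cell.Pt.map φ g₁ * c * (Cell.Pt.map φ g₁)⁻¹) (inf_conj _ _ hi) (by
      have e : (Cell.Pt.map φ g₁)⁻¹ * (Cell.Pt.map φ g₁ * c * (Cell.Pt.map φ g₁)⁻¹) * Cell.Pt.map φ g₁ = c := by group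
      rw [← e] at hc
      exact hc)
    have e : Cell.Pt.map φ (g₂⁻¹ * g₁) * c * (Cell.Pt.map φ (g₂⁻¹ * g₁))⁻¹ =
        (Cell.Pt.map φ g₂)⁻¹ * (Cell.Pt.map φ g₁ * c * (Cell.Pt.map φ g₁)⁻¹) * Cell.Pt.map φ g₂ := by
      rw [Cell.Pt.map_mul, Cell.Pt.map_inv]
      group
    rw [e]
    exact h2) C φ ((Cell.Pt.map φ g₁)⁻¹ * c * Cell.Pt.map φ g₁) hc
  have e : Cell.Pt.map φ (g₂⁻¹ * g₁) * ((Cell.Pt.map φ g₁)⁻¹ * c * Cell.Pt.map φ g₁) *
      (Cell.Pt.map φ (g₂⁻¹ * g₁))⁻¹ = (Cell.Pt.map φ g₂)⁻¹ * c * Cell.Pt.map φ g₂ := by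
    rw [Cell.Pt.map_mul, Cell.Pt.map_inv]
    group
  rw [e] at h1
  exact h1

end ring

section local_

variable {S S' : Scheme.{u}} {f : S' ⟶ S} {G : Over S} {H : Over S'}

/-- Membership of points in a closed subscheme is étale local. -/
theorem pt_of_etale (h : H ⟶ Red.bc f G) [IsClosedImmersion h.left] {X : Scheme.{u}} (y : X ⟶ S') (a : X ⟶ G.left)
    (hw : y ≫ f = a ≫ G.hom) (hl : ∀ x : X, ∃ (X' : Scheme.{u}) (p : X' ⟶ X), Etale p ∧ x ∈ Set.range p ∧
      H647.SubPt.Pt h (p ≫ y) (p ≫ a)) : H647.SubPt.Pt h y a := by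
  choose X' p hp hx hpt using hl
  let q : (∐ X') ⟶ X := Sigma.desc p
  have hq : Flat q := IsZariskiLocalAtSource.sigmaDesc (P := @Flat) fun x => by
    have := hp x
    infer_instance
  have hs : Surjective q := ⟨fun x => by
    obtain ⟨z, hz⟩ := hx x
    refine ⟨Sigma.ι X' x z, ?_⟩
    rw [← Scheme.Hom.comp_apply, Sigma.ι_desc, hz]⟩
  choose r hr1 hr2 using hpt
  have h1 : H647.SubPt.Pt h (q ≫ y) (q ≫ a) := by
    refine ⟨Sigma.desc r, ?_, ?_⟩
    · apply Sigma.hom_ext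
      intro x
      rw [Sigma.ι_desc_assoc, hr1, Sigma.ι_desc_assoc]
    · apply Sigma.hom_ext
      intro x
      rw [Sigma.ι_desc_assoc, hr2, Sigma.ι_desc_assoc]
  let X₀ : Over S := Over.mk (y ≫ f)
  let y₀ : X₀ ⟶ Over.mk f := Over.homMk y
  let a₀ : X₀ ⟶ G := Over.homMk a hw.symm
  let q₀ : Over.mk (q ≫ y ≫ f) ⟶ X₀ := Over.homMk q
  have h2 : Flat q₀.left := hq
  have h3 : Surjective q₀.left := hs
  exact (H647.SubPt.memAt_iff_pt h y₀ a₀).1 (MemAt.of_flat q₀ ((H647.SubPt.memAt_iff_pt h _ _).2 h1))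

end local_

section chart

variable {S : Scheme.{u}} {R : Type u} [CommRing R] {v : Spec (CommRingCat.of R) ⟶ S} {G : Over S} [GrpObj G]
  {A : Type u} [CommRing A] [Algebra R A] [PtGrp R A] (K : AffChart v G A)
  (R' : Type u) [CommRing R'] [Algebra R R']

/-- the structure morphism of `Spec R'` over `S` -/
noncomputable abbrev wV (v : Spec (CommRingCat.of R) ⟶ S) : Spec (CommRingCat.of R') ⟶ S := sp (algebraMap R R') ≫ v

theorem left_mul_congr {T : Scheme.{u}} {t t' : T ⟶ S} (h : t = t') (g g' : Over.mk t ⟶ G) (k k' : Over.mk t' ⟶ G)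
    (e : g.left = k.left) (e' : g'.left = k'.left) : (g * g').left = (k * k').left := by
  subst h
  rw [Over.OverMorphism.ext e, Over.OverMorphism.ext e']

variable {C : Type u} [CommRing C] [Algebra R C] [Algebra R' C] [IsScalarTower R R' C]

theorem sp_tower : sp (algebraMap R' C) ≫ wV R' v = sp (algebraMap R C) ≫ v := by
  rw [wV, ← Category.assoc, ← sp_comp, ← IsScalarTower.algebraMap_eq]

/-- points of `A` over `R'`-algebras as points of `G_{R'}` -/
noncomputable def kV (c : Cell.Pt R A C) : SpecOver R' C ⟶ Red.bc (wV R' v) G :=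
  bcEquiv (wV R' v) (SpecOver R' C) G (Over.homMk (U := (Over.map (wV R' v)).obj (SpecOver R' C)) (ptL K c)
    ((ptL_hom K c).trans (sp_tower R').symm))

theorem kV_fst (c : Cell.Pt R A C) : (kV K R' c).left ≫ pullback.fst G.hom (wV R' v) = ptL K c := by
  rw [← bcEquiv_symm_left, kV, Equiv.symm_apply_apply]
  rfl

theorem kV_snd (c : Cell.Pt R A C) : (kV K R' c).left ≫ pullback.snd G.hom (wV R' v) = sp (algebraMap R' C) :=
  Over.w (kV K R' c)

omit [GrpObj G] in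
theorem ext_left {T : Over (Spec (CommRingCat.of R'))} (g g' : T ⟶ Red.bc (wV R' v) G)
    (h : g.left ≫ pullback.fst G.hom (wV R' v) = g'.left ≫ pullback.fst G.hom (wV R' v)) : g = g' := by
  apply Over.OverMorphism.ext
  apply pullback.hom_ext
  · exact h
  · exact (Over.w g).trans (Over.w g').symm

theorem kV_mul (c c' : Cell.Pt R A C) : kV K R' (c * c') = kV K R' c * kV K R' c' := by
  rw [kV, kV, kV, ← bcEquiv_mul]
  congr 1
  apply Over.OverMorphism.ext
  have h1 : ptL K (c * c') = ((K.pt C c) * (K.pt C c')).left := by rw [ptL, map_mul]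
  refine h1.trans ?_
  exact left_mul_congr (sp_tower R').symm _ _ _ _ rfl rfl

theorem kV_inv (c : Cell.Pt R A C) : kV K R' c⁻¹ = (kV K R' c)⁻¹ := by
  have h1 : ∀ x : Cell.Pt R A C, kV K R' (1 : Cell.Pt R A C) = 1 := by
    intro x
    have h2 := kV_mul K R' (1 : Cell.Pt R A C) 1
    rw [_root_.mul_one] at h2
    exact (left_eq_mul.1 h2)
  rw [eq_inv_iff_mul_eq_one, ← kV_mul, inv_mul_cancel, h1 c]

theorem exists_kV (g : SpecOver R' C ⟶ Red.bc (wV R' v) G) : ∃ c : Cell.Pt R A C, kV K R' c = g := by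
  let gl : Spec (CommRingCat.of C) ⟶ pullback G.hom (wV R' v) := g.left
  have h1 : gl ≫ pullback.snd G.hom (wV R' v) = sp (algebraMap R' C) := Over.w g
  obtain ⟨c, hc⟩ := exists_ptL (C := C) K (gl ≫ pullback.fst G.hom (wV R' v)) (by
    rw [Category.assoc, pullback.condition, ← Category.assoc, h1, sp_tower R'])
  exact ⟨c, ext_left R' _ _ ((kV_fst K R' c).trans hc)⟩

theorem kV_map {D : Type u} [CommRing D] [Algebra R D] [Algebra R' D] [IsScalarTower R R' D] (φ : C →ₐ[R'] D)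
    (c : Cell.Pt R A C) : specMap R' φ ≫ kV K R' c = kV K R' (Cell.Pt.map (φ.restrictScalars R) c) := by
  apply ext_left
  rw [kV_fst, ptL_map]
  refine (Category.assoc _ _ _).trans ?_
  exact congrArg (sp φ.toRingHom ≫ ·) (kV_fst K R' c)

/-- points of a subgroup -/
theorem exists_comp_iff {Q : Over (Spec (CommRingCat.of R'))} (q : Q ⟶ Red.bc (wV R' v) G) (c : Cell.Pt R A C) :
    (∃ x : SpecOver R' C ⟶ Q, x ≫ q = kV K R' c) ↔
      H647.SubPt.Pt q (sp (algebraMap R' C)) (ptL K c) := by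
  constructor
  · rintro ⟨x, hx⟩
    refine ⟨x.left, Over.w x, ?_⟩
    rw [← kV_fst K R', ← hx]
    exact (Category.assoc _ _ _).symm
  · rintro ⟨x, h1, h2⟩
    refine ⟨Over.homMk x h1, ext_left R' _ _ ?_⟩
    rw [kV_fst, ← h2]
    exact Category.assoc _ _ _

set_option linter.unusedSectionVars false in
/-- the condition defined by a closed subgroup of `G_{R'}` -/
def condV {Q : Over (Spec (CommRingCat.of R'))} (q : Q ⟶ Red.bc (wV R' v) G) : Cond R A R' :=
  condC K q (𝟙 (Spec (CommRingCat.of R')))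

theorem condV_iff {Q : Over (Spec (CommRingCat.of R'))} (q : Q ⟶ Red.bc (wV R' v) G) {D : Type u} [CommRing D]
    [Algebra R D] (ψ : R' →ₐ[R] D) (c : Cell.Pt R A D) :
    condV K R' q D ψ c.hom ↔ H647.SubPt.Pt q (sp ψ.toRingHom) (ptL K c) := by
  change H647.SubPt.Pt q (sp ψ.toRingHom ≫ 𝟙 _) (ptL K c) ↔ _
  rw [Category.comp_id]

/-- **The conjugate of `q` by `g₀` in terms of conditions.** -/
theorem pt_fam_iff_conjE {Q : Over (Spec (CommRingCat.of R'))} [GrpObj Q] (q : Q ⟶ Red.bc (wV R' v) G)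
    {U : Scheme.{u}} (fU : U ⟶ Spec (CommRingCat.of R')) (g₀ : Over.mk fU ⟶ Red.bc (wV R' v) G)
    (y₀ : Spec (CommRingCat.of C) ⟶ U) (hy : y₀ ≫ fU = sp (algebraMap R' C)) :
    ∃ g : Cell.Pt R A C, ∀ (D : Type u) [CommRing D] [Algebra R D] (φ : C →ₐ[R] D) (c : Cell.Pt R A D)
      (a : Spec (CommRingCat.of D) ⟶ (Red.bc (wV R' v) G).left)
      (_ : a ≫ pullback.fst G.hom (wV R' v) = ptL K c)
      (_ : a ≫ pullback.snd G.hom (wV R' v) = sp φ.toRingHom ≫ y₀ ≫ fU),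
      (H647.SubPt.Pt (fam q g₀) (sp φ.toRingHom ≫ y₀) a ↔
        conjE (condV K R' q) (IsScalarTower.toAlgHom R R' C) g D φ c.hom) := by
  let y₀' : SpecOver R' C ⟶ Over.mk fU := Over.homMk y₀ hy
  obtain ⟨g, hg⟩ := exists_kV K R' (y₀' ≫ g₀)
  refine ⟨g, fun D _ _ φ c a ha1 ha2 => ?_⟩
  let _ : Algebra R' D := (φ.toRingHom.comp (algebraMap R' C)).toAlgebra
  have i1 : IsScalarTower R R' D := IsScalarTower.of_algebraMap_eq' (by
    change _ = (φ.toRingHom.comp (algebraMap R' C)).comp (algebraMap R R')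
    rw [RingHom.comp_assoc, ← IsScalarTower.algebraMap_eq]
    exact φ.comp_algebraMap.symm)
  let φ' : C →ₐ[R'] D := { φ.toRingHom with commutes' := fun r => rfl }
  have hφ' : φ'.restrictScalars R = φ := rfl
  have hD : sp (algebraMap R' D) = sp φ.toRingHom ≫ sp (algebraMap R' C) := sp_comp _ _
  let b : SpecOver R' D ⟶ Over.mk fU := specMap R' φ' ≫ y₀'
  have hc2 : (kV K R' c).left = a := by
    apply pullback.hom_ext
    · exact (kV_fst K R' c).trans ha1.symm
    · refine (kV_snd K R' c).trans (hD.trans (Eq.trans ?_ ha2.symm))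
      rw [← hy]
  have h1 := pt_fam_iff q g₀ b (kV K R' c)
  rw [hc2] at h1
  refine h1.trans ?_
  have h2 : b ≫ g₀ = kV K R' (Cell.Pt.map φ g) := by
    rw [Category.assoc, ← hg, kV_map, hφ']
  rw [InC, h2, ← kV_inv, ← kV_mul, ← kV_mul, exists_comp_iff]
  have h3 := condV_iff K R' q (φ.comp (IsScalarTower.toAlgHom R R' C)) ((Cell.Pt.map φ g)⁻¹ * c * Cell.Pt.map φ g)
  exact h3.symm

end chart

section main

variable {S : Scheme.{u}} {R : Type u} [CommRing R] {v : Spec (CommRingCat.of R) ⟶ S} {G : Over S} [GrpObj G]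
  {A : Type u} [CommRing A] [Algebra R A] [PtGrp R A] (K : AffChart v G A)
  (R' : Type u) [CommRing R'] [Algebra R R']

/-- the coordinate ring of a closed subgroup of `G_{R'}` -/
theorem exists_rep_condV [IsAffineHom G.hom] [hG : Smooth G.hom] {Q : Over (Spec (CommRingCat.of R'))} [GrpObj Q]
    (q : Q ⟶ Red.bc (wV R' v) G) [IsMonHom q] [IsClosedImmersion q.left] [Smooth Q.hom]
    (hc : ∀ s : Spec (CommRingCat.of R'), ConnectedSpace (Red.geomFibre s Q).left) :
    ∃ I : Ideal (R' ⊗[R] A), IsRep (condV K R' q) I ∧ I.FG ∧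
      condV K R' q R' (AlgHom.id R R') (1 : Cell.Pt R A R').hom ∧ Algebra.Smooth R' ((R' ⊗[R] A) ⧸ I) ∧
      ∀ (k : Type u) [Field k] [IsAlgClosed k] [Algebra R' k],
        ConnectedSpace (PrimeSpectrum (k ⊗[R'] ((R' ⊗[R] A) ⧸ I))) := by
  have hcl : 𝟙 (Spec (CommRingCat.of R')) ≫ wV R' v = sp (algebraMap R R') ≫ v := Category.id_comp _
  obtain ⟨I, hI, j, hj⟩ := exists_rep K (h := q) (𝟙 (Spec (CommRingCat.of R'))) hcl
  have h1 : Algebra.Smooth R' ((R' ⊗[R] A) ⧸ I) := smooth_of_isPullback hj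
  have h2 : Smooth (Red.bc (wV R' v) G).hom := MorphismProperty.pullback_snd (P := @Smooth) _ _ hG
  have h3 : Algebra.Smooth R' (R' ⊗[R] A) :=
    smooth_of_isPullback (H := Red.bc (wV R' v) G) (isPullback_mU K (𝟙 (Spec (CommRingCat.of R'))) hcl)
  have h4 : IsAffineHom Q.hom := by
    have e : q.left ≫ pullback.snd G.hom (wV R' v) = Q.hom := left_snd q
    have e2 : IsAffineHom (pullback.snd G.hom (wV R' v)) := MorphismProperty.pullback_snd (P := @IsAffineHom) _ _ ‹_›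
    rw [← e]
    infer_instance
  refine ⟨I, hI, ?_, ?_, h1, fun k _ _ _ => connected_of_isPullback hc hj k⟩
  · have h5 : Algebra.FinitePresentation R' (R' ⊗[R] A) := Algebra.Smooth.finitePresentation
    have h6 : Algebra.FinitePresentation R' ((R' ⊗[R] A) ⧸ I) := Algebra.Smooth.finitePresentation
    have h7 := Algebra.FinitePresentation.ker_fG_of_surjective (Ideal.Quotient.mkₐ R' I)
      (Ideal.Quotient.mkₐ_surjective R' I)
    have h8 : RingHom.ker (Ideal.Quotient.mkₐ R' I).toRingHom = I := Ideal.mk_ker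
    rwa [h8] at h7
  · rw [condV_iff]
    refine ⟨η[Q].left, ?_, ?_⟩
    · have e1 : sp (AlgHom.id R R').toRingHom = 𝟙 _ := Spec.map_id _
      exact (Over.w η[Q]).trans e1.symm
    · have e2 : η[Q] ≫ q = η[Red.bc (wV R' v) G] := IsMonHom.one_hom q
      have e3 : η[Q].left ≫ q.left = η[Red.bc (wV R' v) G].left := congrArg (fun t => t.left) e2
      rw [← Category.assoc, e3, eta_bc_fst, ptL_one]

variable {J : Type u} {Q : J → Over (Spec (CommRingCat.of R'))} [∀ j, GrpObj (Q j)]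
  {q : ∀ j, Q j ⟶ Red.bc (wV R' v) G} {𝒬 : SubClass G}

/-- étale locally the subgroups of class `𝒬` are given by conjugate conditions -/
theorem exists_conjE (hl : LocIn (restrict (wV R' v) 𝒬) Q q) {S' : Scheme.{u}} (f : S' ⟶ Spec (CommRingCat.of R'))
    {H : Over S'} [GrpObj H] (h : H ⟶ Red.bc (f ≫ wV R' v) G) (hQ : 𝒬.Q (f ≫ wV R' v) h) (s : S') :
    ∃ (U : Scheme.{u}) (π : U ⟶ S'), Etale π ∧ s ∈ Set.range π ∧ ∃ j : J, ∀ (C : Type u) [CommRing C] [Algebra R C]
      [Algebra R' C] [IsScalarTower R R' C] (y₀ : Spec (CommRingCat.of C) ⟶ U)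
      (_ : y₀ ≫ π ≫ f = sp (algebraMap R' C)), ∃ g : Cell.Pt R A C, ∀ (D : Type u) [CommRing D] [Algebra R D]
        (φ : C →ₐ[R] D) (c : Cell.Pt R A D), H647.SubPt.Pt h (sp φ.toRingHom ≫ y₀ ≫ π) (ptL K c) ↔
          conjE (condV K R' (q j)) (IsScalarTower.toAlgHom R R' C) g D φ c.hom := by
  have hQ' : (restrict (wV R' v) 𝒬).Q f (upw (wV R' v) h) := by
    change 𝒬.Q _ (down (wV R' v) (upw (wV R' v) h))
    rw [down_upw]
    exact hQ
  obtain ⟨U, π, h1, h2, j, g₀, hg₀⟩ := hl f (upw (wV R' v) h) hQ' s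
  refine ⟨U, π, h1, h2, j, ?_⟩
  intro C _ _ _ _ y₀ hy
  obtain ⟨g, hg⟩ := pt_fam_iff_conjE K R' (q j) (π ≫ f) g₀ y₀ hy
  refine ⟨g, fun D _ _ φ c => ?_⟩
  have e0 : ptL K c ≫ G.hom = (sp φ.toRingHom ≫ y₀ ≫ π ≫ f) ≫ wV R' v := by
    rw [ptL_hom, hy, Category.assoc, sp_tower R', ← Category.assoc, ← sp_comp]
    have e1 : φ.toRingHom.comp (algebraMap R C) = algebraMap R D := φ.comp_algebraMap
    rw [e1]
  have e2 := hg D φ c (pullback.lift (ptL K c) (sp φ.toRingHom ≫ y₀ ≫ π ≫ f) e0) (pullback.lift_fst _ _ _)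
    (pullback.lift_snd _ _ _)
  rw [← e2, hg₀, pt_iff_down, down_upw]
  have e3 : pullback.lift (ptL K c) (sp φ.toRingHom ≫ y₀ ≫ π ≫ f) e0 ≫ pullback.fst G.hom (wV R' v) = ptL K c :=
    pullback.lift_fst _ _ _
  have e4 : pullback.lift (ptL K c) (sp φ.toRingHom ≫ y₀ ≫ π ≫ f) e0 ≫ pullback.snd G.hom (wV R' v) =
      ((sp φ.toRingHom ≫ y₀) ≫ π) ≫ f := by
    rw [pullback.lift_snd]
    simp only [Category.assoc]
  rw [e3, and_iff_right e4, Category.assoc]

include K in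
/-- **Finite families of conjugacy classes of subgroups are determined by infinitesimal points.** -/
theorem detG_of_family [IsAffineHom G.hom] [Smooth G.hom] [Etale (wV R' v)] [Surjective (wV R' v)] [Finite J]
    (hq1 : ∀ j, IsMonHom (q j)) (hq2 : ∀ j, IsClosedImmersion (q j).left) (hq3 : ∀ j, Smooth (Q j).hom)
    (hq4 : ∀ j (s : Spec (CommRingCat.of R')), ConnectedSpace (Red.geomFibre s (Q j)).left)
    (hl : LocIn (restrict (wV R' v) 𝒬) Q q) : ∃ n, DetG 𝒬 n := by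
  classical
  have := Fintype.ofFinite J
  choose I hI1 hI2 hI3 hI4 hI5 using fun j => exists_rep_condV K R' (q j) (hq4 j)
  have hdet : ∀ i j : J, ∃ n, Detects (condV K R' (q i)) (condV K R' (q j)) n := fun i j =>
    have := hI4 i
    exists_detects (hI1 i) (hI1 j) (hI2 j) (hI3 i) (hI5 i)
  choose m hm using hdet
  let n : ℕ := Finset.univ.sup fun i => Finset.univ.sup (m i)
  have hn : ∀ i j : J, Detects (condV K R' (q i)) (condV K R' (q j)) n := fun i j =>
    detects_mono ((Finset.le_sup (f := m i) (Finset.mem_univ j)).trans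
      (Finset.le_sup (f := fun i => Finset.univ.sup (m i)) (Finset.mem_univ i))) (hm i j)
  refine ⟨n, ?_⟩
  have main : ∀ {S' : Scheme.{u}} (f : S' ⟶ S) {H H' : Over S'} [GrpObj H] [GrpObj H'] (h : H ⟶ Red.bc f G)
      (h' : H' ⟶ Red.bc f G), 𝒬.Q f h → 𝒬.Q f h' →
      (∀ (C : Type u) [CommRing C] (c : Spec (CommRingCat.of C) ⟶ S') (a : Spec (CommRingCat.of C) ⟶ G.left),
        InfG G n a → (H647.SubPt.Pt h c a → H647.SubPt.Pt h' c a)) →
      ∀ (X : Scheme.{u}) (y : X ⟶ S') (a : X ⟶ G.left), H647.SubPt.Pt h y a → H647.SubPt.Pt h' y a := by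
    intro S' f H H' _ _ h h' hQ hQ' hh X y a hp
    have hcl := 𝒬.isClosedImmersion hQ'
    refine pt_of_etale h' y a hp.w fun x => ?_
    -- pass to `V'`
    obtain ⟨t, ht, -⟩ := Scheme.Pullback.exists_preimage_pullback (f := f) (g := wV R' v) (y x)
      ((wV R' v).surjective (f (y x))).choose ((wV R' v).surjective (f (y x))).choose_spec.symm
    let S₁ : Over S := Over.mk (pullback.snd f (wV R' v) ≫ wV R' v)
    let p₁ : S₁ ⟶ Over.mk f := Over.homMk (pullback.fst f (wV R' v)) pullback.condition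
    obtain ⟨H₁, _, h₁, hQ₁, hp₁⟩ := 𝒬.exists_bc p₁ (T := Over.mk f) hQ
    obtain ⟨U₁, π₁, hπ₁, ⟨u₁, hu₁⟩, i, hi⟩ := exists_conjE K R' hl (pullback.snd f (wV R' v)) h₁ hQ₁ t
    let S₂ : Over S := Over.mk ((π₁ ≫ pullback.snd f (wV R' v)) ≫ wV R' v)
    let p₂ : S₂ ⟶ Over.mk f := Over.homMk (π₁ ≫ pullback.fst f (wV R' v)) (by
      change (π₁ ≫ pullback.fst f (wV R' v)) ≫ f = (π₁ ≫ pullback.snd f (wV R' v)) ≫ wV R' v
      rw [Category.assoc, pullback.condition, Category.assoc])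
    obtain ⟨H₂, _, h₂, hQ₂, hp₂⟩ := 𝒬.exists_bc p₂ (T := Over.mk f) hQ'
    obtain ⟨U₂, π₂, hπ₂, ⟨u₂, hu₂⟩, j, hj⟩ := exists_conjE K R' hl (π₁ ≫ pullback.snd f (wV R' v)) h₂ hQ₂ u₁
    let π : U₂ ⟶ S' := π₂ ≫ π₁ ≫ pullback.fst f (wV R' v)
    have hπ : Etale π := by
      have : Etale (pullback.fst f (wV R' v)) := inferInstance
      infer_instance
    have hπu : π u₂ = y x := by
      simp only [π, Scheme.Hom.comp_apply, hu₂, hu₁, ht]
    obtain ⟨z, hz1, -⟩ := Scheme.Pullback.exists_preimage_pullback (f := y) (g := π) x u₂ hπu.symm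
    -- an affine neighbourhood of `z`
    obtain ⟨W, hW, hzW, -⟩ := exists_isAffineOpen_mem_and_subset (X := pullback y π) (x := z) (U := ⊤) trivial
    let C : Type u := Γ(pullback y π, W)
    let c₀ : Spec (CommRingCat.of C) ⟶ pullback y π := hW.fromSpec
    have hc₀ : IsOpenImmersion c₀ := inferInstanceAs (IsOpenImmersion hW.fromSpec)
    obtain ⟨z', hz'⟩ : z ∈ Set.range c₀ := by
      have := hW.range_fromSpec
      change z ∈ Set.range hW.fromSpec
      rw [this]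
      exact hzW
    let c : Spec (CommRingCat.of C) ⟶ X := c₀ ≫ pullback.fst y π
    let y₀ : Spec (CommRingCat.of C) ⟶ U₂ := c₀ ≫ pullback.snd y π
    have hcy : c ≫ y = y₀ ≫ π := by
      simp only [c, y₀, Category.assoc, pullback.condition]
    have hc1 : Etale c := by
      have : Etale (pullback.fst y π) := inferInstance
      infer_instance
    refine ⟨_, c, hc1, ⟨z', by rw [Scheme.Hom.comp_apply, hz', hz1]⟩, ?_⟩
    rw [hcy]
    -- algebra structures
    obtain ⟨ρ, hρ⟩ := exists_sp (y₀ ≫ π₂ ≫ π₁ ≫ pullback.snd f (wV R' v))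
    let _ : Algebra R' C := ρ.toAlgebra
    let _ : Algebra R C := (ρ.comp (algebraMap R R')).toAlgebra
    have i1 : IsScalarTower R R' C := IsScalarTower.of_algebraMap_eq' rfl
    have hρ' : sp (algebraMap R' C) = y₀ ≫ π₂ ≫ π₁ ≫ pullback.snd f (wV R' v) := hρ
    obtain ⟨g, hg⟩ := hi C (y₀ ≫ π₂) (by rw [hρ']; simp only [Category.assoc])
    obtain ⟨g', hg'⟩ := hj C y₀ (by rw [hρ'])
    have hcf : (c ≫ a) ≫ G.hom = sp (algebraMap R C) ≫ v := by
      have h9 : y ≫ f = a ≫ G.hom := hp.w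
      rw [Category.assoc, ← h9, ← Category.assoc, hcy, ← sp_tower R', hρ']
      simp only [π, Category.assoc, pullback.condition]
    obtain ⟨c₁, hc₁⟩ := exists_ptL K (c ≫ a) hcf
    have key1 : ∀ (D : Type u) [CommRing D] [Algebra R D] (φ : C →ₐ[R] D) (b : Cell.Pt R A D),
        H647.SubPt.Pt h (sp φ.toRingHom ≫ y₀ ≫ π) (ptL K b) ↔
          conjE (condV K R' (q i)) (IsScalarTower.toAlgHom R R' C) g D φ b.hom := by
      intro D _ _ φ b
      rw [← hg]
      have e1 := hp₁ _ (sp φ.toRingHom ≫ (y₀ ≫ π₂) ≫ π₁) (ptL K b)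
      refine Iff.trans ?_ e1.symm
      change _ ↔ H647.SubPt.Pt h ((sp φ.toRingHom ≫ (y₀ ≫ π₂) ≫ π₁) ≫ pullback.fst f (wV R' v)) (ptL K b)
      simp only [π, Category.assoc]
    have key2 : ∀ (D : Type u) [CommRing D] [Algebra R D] (φ : C →ₐ[R] D) (b : Cell.Pt R A D),
        H647.SubPt.Pt h' (sp φ.toRingHom ≫ y₀ ≫ π) (ptL K b) ↔
          conjE (condV K R' (q j)) (IsScalarTower.toAlgHom R R' C) g' D φ b.hom := by
      intro D _ _ φ b
      rw [← hg']
      have e1 := hp₂ _ (sp φ.toRingHom ≫ y₀ ≫ π₂) (ptL K b)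
      refine Iff.trans ?_ e1.symm
      change _ ↔ H647.SubPt.Pt h' ((sp φ.toRingHom ≫ y₀ ≫ π₂) ≫ π₁ ≫ pullback.fst f (wV R' v)) (ptL K b)
      simp only [π, Category.assoc]
    have e5 : ∀ {H₃ : Over S'} (h₃ : H₃ ⟶ Red.bc f G), H647.SubPt.Pt h₃ (y₀ ≫ π) (c ≫ a) ↔
        H647.SubPt.Pt h₃ (sp (AlgHom.id R C).toRingHom ≫ y₀ ≫ π) (ptL K c₁) := by
      intro H₃ h₃
      have e6 : sp (AlgHom.id R C).toRingHom = 𝟙 _ := Spec.map_id _
      rw [e6, Category.id_comp, hc₁]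
    rw [e5, key2]
    refine conj_le_pair (hn i j) (IsScalarTower.toAlgHom R R' C) g g' (fun D _ _ φ b hb hE => ?_) C (AlgHom.id R C) c₁ ?_
    · refine (key2 D φ b).1 (hh D _ _ ((infG_iff K n b).2 hb) ((key1 D φ b).2 hE))
    · refine (key1 C (AlgHom.id R C) c₁).1 ((e5 h).1 ?_)
      rw [← hcy]
      exact hp.comp c
  intro S' f H H' _ _ h h' hQ hQ' hh X y a
  exact ⟨main f h h' hQ hQ' (fun C _ c a ha => (hh C c a ha).1) X y a,
    main f h' h hQ' hQ (fun C _ c a ha => (hh C c a ha).2) X y a⟩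

end main

end Groth.Agent.RedSub.H660.DetFam
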