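import Groth.Agent.RedSub.H660.ConjRep

/-!
# Restriction of a class of subgroups along `v : V ⟶ S`

`restrict v 𝒬` : the class of subgroups of `G_V` given by the class `𝒬` of subgroups of `G`.
* `restrict_isLocal`;
* `representableBy_restrict` : a scheme representing the functor of subgroups of class `restrict v 𝒬` represents the
  restriction of `𝒬.subsF`;
* `locIn_of_conjEq` : local conjugacy in terms of `RedSub.ConjEq`.
-/

set_option autoImplicit false
universe u

open CategoryTheory CategoryTheory.Limits AlgebraicGeometry Opposite MonoidalCategory CartesianMonoidalCategory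
  MonObj GrpObj

namespace Groth.Agent.RedSub.H660.Restrict

open Groth.Agent.Sga3B Groth.Agent.Sga3B.BcPts Groth.Agent.Sga3B.MT Groth.Agent.Sga3B.RepDescent
open Groth.Agent.RedSub.H647.SubPt Groth.Agent.RedSub.H647.SubF Groth.Agent.RedSub.H647.SubF.SubClass
open Groth.Agent.Redsub.H649.ConjPts (fam InC taut)

variable {S V : Scheme.{u}} (v : V ⟶ S) {G : Over S} [GrpObj G]

section down

variable {S' S'' : Scheme.{u}} {q : S' ⟶ V} {H : Over S'}

lemma isMonHom_down [GrpObj H] (h : H ⟶ Red.bc q (Red.bc v G)) [IsMonHom h] : IsMonHom (down v h) := by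
  have h1 : IsMonHom (RedIso.und (BcIso.bcCompIso q v G).symm).hom :=
    inferInstanceAs (IsMonHom (BcIso.bcCompIso q v G).symm.hom.hom.hom)
  unfold down
  infer_instance

lemma upw_down (h : H ⟶ Red.bc q (Red.bc v G)) : upw v (down v h) = h := by
  rw [down, upw, Category.assoc, BcNat.und_symm, Iso.inv_hom_id, Category.comp_id]

lemma isMonHom_upw [GrpObj H] (h : H ⟶ Red.bc (q ≫ v) G) [IsMonHom h] : IsMonHom (upw v h) := by
  have h1 : IsMonHom (RedIso.und (BcIso.bcCompIso q v G)).hom :=
    inferInstanceAs (IsMonHom (BcIso.bcCompIso q v G).hom.hom.hom)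
  unfold upw
  infer_instance

lemma isClosedImmersion_down (h : H ⟶ Red.bc q (Red.bc v G)) [IsClosedImmersion h.left] :
    IsClosedImmersion (down v h).left := by
  have h1 : IsIso (RedIso.und (BcIso.bcCompIso q v G).symm).hom.left :=
    (Over.forget _).map_isIso (RedIso.und (BcIso.bcCompIso q v G).symm).hom
  rw [down, Over.comp_left]
  infer_instance

lemma isClosedImmersion_upw (h : H ⟶ Red.bc (q ≫ v) G) [IsClosedImmersion h.left] :
    IsClosedImmersion (upw v h).left := by
  have h1 : IsIso (RedIso.und (BcIso.bcCompIso q v G)).hom.left :=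
    (Over.forget _).map_isIso (RedIso.und (BcIso.bcCompIso q v G)).hom
  rw [upw, Over.comp_left]
  infer_instance

/-- points of the base change of a subgroup of `G_V` -/
lemma pt_down_bcSub (r : S'' ⟶ S') (h : H ⟶ Red.bc q (Red.bc v G)) {X : Scheme.{u}} (y : X ⟶ S'')
    (γ : X ⟶ G.left) : Pt (down v (q := r ≫ q) (bcSub r h)) y γ ↔ Pt (bcSub r (down v h)) y γ := by
  rw [pt_bcSub, pt_down_iff, pt_down_iff]
  simp only [pt_bcSub, Category.assoc]

end down

/-- the restriction of a class of subgroups along `v : V ⟶ S` -/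
def restrict (𝒬 : SubClass G) : SubClass (Red.bc v G) where
  Q f _ _ h := 𝒬.Q (f ≫ v) (down v h)
  isMonHom {S' f H _ h} hQ := by
    have h1 := 𝒬.isMonHom hQ
    have h2 := isMonHom_upw v (down v h)
    rwa [upw_down] at h2
  isClosedImmersion {S' f H _ h} hQ := by
    have h1 := 𝒬.isClosedImmersion hQ
    have h2 := isClosedImmersion_upw v (down v h)
    rwa [upw_down] at h2
  of_iso e he hQ := 𝒬.of_iso e (by rw [down, down, ← Category.assoc, he]) hQ
  bc {S' S''} r f H _ h hQ := by
    have h0 : IsMonHom h := by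
      have h1 := 𝒬.isMonHom hQ
      have h2 := isMonHom_upw v (down v h)
      rwa [upw_down] at h2
    have h0' : IsClosedImmersion h.left := by
      have h1 := 𝒬.isClosedImmersion hQ
      have h2 := isClosedImmersion_upw v (down v h)
      rwa [upw_down] at h2
    have h1 : IsMonHom (bcSub r h) := isMonHom_bcSub r h
    have h2 : IsClosedImmersion (bcSub r h).left := isClosedImmersion_bcSub r h
    have h3 : IsMonHom (down v (q := r ≫ f) (bcSub r h)) := isMonHom_down v _
    have h4 : IsClosedImmersion (down v (q := r ≫ f) (bcSub r h)).left := isClosedImmersion_down v _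
    have h5 : Mono (down v (q := r ≫ f) (bcSub r h)) := Sga3C.ClosedSub.mono_of_left _
    exact 𝒬.of_pt (Category.assoc r f v).symm (fun X y γ => (pt_down_bcSub v r h y γ).symm) (𝒬.bc r hQ)

lemma restrict_Q {𝒬 : SubClass G} {S' : Scheme.{u}} (f : S' ⟶ V) {H : Over S'} [GrpObj H]
    (h : H ⟶ Red.bc f (Red.bc v G)) : (restrict v 𝒬).Q f h ↔ 𝒬.Q (f ≫ v) (down v h) := Iff.rfl

/-- the restriction of a local class is local -/
theorem restrict_isLocal {𝒬 : SubClass G}
    {C : ∀ {J : Type u} {Y : Scheme.{u}} {Y' : J → Scheme.{u}}, (∀ i, Y' i ⟶ Y) → Prop} (hloc : 𝒬.IsLocal C) :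
    (restrict v 𝒬).IsLocal C := by
  intro S' f J S'' q hq H _ h h1 h2 hQ
  have h3 := isMonHom_down v h
  have h4 := isClosedImmersion_down v h
  refine hloc (f ≫ v) q hq (down v h) h3 h4 fun i => ?_
  have h5 : IsMonHom (bcSub (q i) (down v h)) := isMonHom_bcSub _ _
  have h6 : IsClosedImmersion (bcSub (q i) (down v h)).left := isClosedImmersion_bcSub _ _
  have h7 : Mono (bcSub (q i) (down v h)) := Sga3C.ClosedSub.mono_of_left _
  exact 𝒬.of_pt (Category.assoc _ _ _) (fun X y γ => pt_down_bcSub v (q i) h y γ) (hQ i)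

/-- A representation of the restricted class. -/
theorem representableBy_restrict {𝒬 : SubClass G} {M : Over V}
    (h : Nonempty ((restrict v 𝒬).subsF.RepresentableBy M)) :
    Nonempty (((Over.map v).op ⋙ 𝒬.subsF).RepresentableBy M) := by
  obtain ⟨r⟩ := h
  obtain ⟨H, _, h, hM⟩ := (restrict v 𝒬).exists_represents r
  exact 𝒬.representableBy_of v h hM.1 fun S' f H' _ h' hQ' => hM.2 S' f H' h' hQ'

variable {J : Type u} {Q : J → Over S} {q : ∀ j, Q j ⟶ G}

/-- Local conjugacy in terms of `RedSub.ConjEq`. -/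
theorem locIn_of_conjEq [∀ j, GrpObj (Q j)] {𝒬 : SubClass G}
    (H : ∀ {S' : Scheme.{u}} (f : S' ⟶ S) {H : Over S'} [GrpObj H] (h : H ⟶ Red.bc f G), 𝒬.Q f h →
      ∀ s : S', ∃ (U : Scheme.{u}) (π : U ⟶ S'), Etale π ∧ s ∈ Set.range π ∧ ∃ (j : J)
        (g : Over.mk π ⟶ Red.bc f G), RedSub.ConjEq ((Over.pullback f).map (q j)) h g) : ConjRep.LocIn 𝒬 Q q := by
  intro S' f H' _ h hQ s
  obtain ⟨U, π, h1, h2, j, g, hg⟩ := H f h hQ s
  exact ⟨U, π, h1, h2, j, _, Groth.Agent.Redsub.H649.ConjLoc.samePoints_of_conjEq (M := Over.mk f) π g hg⟩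

end Groth.Agent.RedSub.H660.Restrict
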