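import Groth.Agent.RedSub.H660.ChartPts
import Groth.Agent.RedSub.H660.Restrict
import Groth.Agent.RedSub.H646.DeltaSch
import Groth.Agent.RedSub.H646.ConjInf

/-!
# Closed subgroups determined by their infinitesimal points

`InfG n a` : `a : Spec C ⟶ G` lies in the `n`-th infinitesimal neighbourhood of the unit section.
`DetG 𝒬 n` : subgroups of class `𝒬` are determined by their infinitesimal points of order `n`.
`detG_restrict`; `isInj` : `DetG` implies `IsInj` for every affine chart.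
-/

set_option autoImplicit false
universe u

open CategoryTheory CategoryTheory.Limits AlgebraicGeometry Opposite MonoidalCategory CartesianMonoidalCategory
  MonObj GrpObj
open TensorProduct
open Groth.Agent.Sga3B.Cell

namespace Groth.Agent.RedSub.H660.DetG

open Groth.Agent.RedSub.H647.SubPt Groth.Agent.RedSub.H647.SubF Groth.Agent.RedSub.H647.SubF.SubClass
  Groth.Agent.RedSub.H646.DeltaRing
  Groth.Agent.RedSub.H646.InfPt Groth.Agent.RedSub.H646.PtsRep Groth.Agent.RedSub.H646.DeltaSch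
  Groth.Agent.Sga3B Groth.Agent.Sga3B.BcPts Groth.Agent.Sga3B.MT
open Groth.Agent.RedSub.H646.StabIdeal
open Groth.Agent.Books.AffBridge Groth.Agent.RedSub.H660.ChartPts Groth.Agent.RedSub.H660.Restrict

variable {S : Scheme.{u}} {G : Over S} [GrpObj G]

/-- the unit point -/
theorem one_left {X : Over S} : (1 : X ⟶ G).left = X.hom ≫ η[G].left := by
  rw [Hom.one_def]
  rfl

/-- `a : Spec C ⟶ G` lies in the `n`-th infinitesimal neighbourhood of the unit section. -/
def InfG (G : Over S) [GrpObj G] (n : ℕ) {C : Type u} [CommRing C] (a : Spec (CommRingCat.of C) ⟶ G.left) : Prop :=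
  ∃ N : Ideal C, N ^ (n + 1) = ⊥ ∧ sp (Ideal.Quotient.mk N) ≫ a = (sp (Ideal.Quotient.mk N) ≫ a ≫ G.hom) ≫ η[G].left

section chart

variable {R : Type u} [CommRing R] {v : Spec (CommRingCat.of R) ⟶ S}
  {A : Type u} [CommRing A] [Algebra R A] [PtGrp R A] (K : AffChart v G A)

theorem ptL_one {C : Type u} [CommRing C] [Algebra R C] :
    ptL K (1 : Cell.Pt R A C) = (sp (algebraMap R C) ≫ v) ≫ η[G].left := by
  rw [ptL, map_one, one_left]
  rfl

theorem infG_iff {C : Type u} [CommRing C] [Algebra R C] (n : ℕ) (g : Cell.Pt R A C) :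
    InfG G n (ptL K g) ↔ Inf n g := by
  have key : ∀ N : Ideal C, sp (Ideal.Quotient.mk N) ≫ ptL K g =
      (sp (Ideal.Quotient.mk N) ≫ ptL K g ≫ G.hom) ≫ η[G].left ↔
        Cell.Pt.map (Ideal.Quotient.mkₐ R N) g = 1 := by
    intro N
    have e1 : sp (Ideal.Quotient.mk N) ≫ ptL K g = ptL K (Cell.Pt.map (Ideal.Quotient.mkₐ R N) g) :=
      (ptL_map K (Ideal.Quotient.mkₐ R N) g).symm
    have e2 : (sp (Ideal.Quotient.mk N) ≫ ptL K g ≫ G.hom) ≫ η[G].left =
        ptL K (1 : Cell.Pt R A (C ⧸ N)) := by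
      rw [ptL_one, ptL_hom, ← Category.assoc (sp (Ideal.Quotient.mk N)), ← sp_comp]
    rw [e1, e2]
    exact ⟨fun h => ptL_injective K h, fun h => by rw [h]⟩
  constructor
  · rintro ⟨N, hN, h⟩
    rw [key] at h
    have h2 : (aug R A).map g.hom ≤ N := by
      rw [Ideal.map_le_iff_le_comap]
      intro a ha
      have h3 := congrArg (fun z : Cell.Pt R A (C ⧸ N) => z.hom a) h
      simp only [Cell.Pt.map_hom_apply] at h3
      rw [one_hom_apply] at h3
      have h4 : (1 : Cell.Pt R A R).hom a = 0 := ha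
      rw [h4, map_zero] at h3
      exact (Ideal.Quotient.eq_zero_iff_mem (I := N)).1 h3
    intro a ha
    have h5 : (aug R A ^ (n + 1)).map g.hom ≤ ⊥ := by
      rw [Ideal.map_pow, ← hN]
      exact Ideal.pow_right_mono h2 _
    exact h5 (Ideal.mem_map_of_mem _ ha)
  · intro h
    refine ⟨(aug R A).map g.hom, ?_, ?_⟩
    · rw [← Ideal.map_pow, eq_bot_iff, Ideal.map_le_iff_le_comap]
      intro a ha
      exact h a ha
    · rw [key]
      exact map_mk_eq_one g _ le_rfl

end chart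

/-- Subgroups of class `𝒬` are determined by their infinitesimal points of order `n`. -/
def DetG (𝒬 : SubClass G) (n : ℕ) : Prop :=
  ∀ {S' : Scheme.{u}} (f : S' ⟶ S) {H H' : Over S'} [GrpObj H] [GrpObj H'] (h : H ⟶ Red.bc f G)
    (h' : H' ⟶ Red.bc f G), 𝒬.Q f h → 𝒬.Q f h' →
    (∀ (C : Type u) [CommRing C] (c : Spec (CommRingCat.of C) ⟶ S') (a : Spec (CommRingCat.of C) ⟶ G.left),
      InfG G n a → (H647.SubPt.Pt h c a ↔ H647.SubPt.Pt h' c a)) →
    ∀ (X : Scheme.{u}) (y : X ⟶ S') (a : X ⟶ G.left), H647.SubPt.Pt h y a ↔ H647.SubPt.Pt h' y a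

omit [GrpObj G] in
theorem bcEquiv_symm_left {V : Scheme.{u}} {v : V ⟶ S} {T : Over V} (g : T ⟶ Red.bc v G) :
    ((bcEquiv v T G).symm g).left = g.left ≫ pullback.fst G.hom v := by
  rw [bcEquiv, Adjunction.homEquiv_counit, Over.mapPullbackAdj_counit_app, Over.comp_left]
  rfl

/-- unit of a base change -/
theorem eta_bc_fst {V : Scheme.{u}} (v : V ⟶ S) : η[Red.bc v G].left ≫ pullback.fst G.hom v = v ≫ η[G].left := by
  have h1 := bcEquiv_one (f := v) (T := 𝟙_ (Over V)) (G := G)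
  have h2 : (1 : 𝟙_ (Over V) ⟶ Red.bc v G) = η[Red.bc v G] := (one_eq_one _).symm
  rw [← h2, ← h1, ← bcEquiv_symm_left, Equiv.symm_apply_apply, one_left]
  exact congrArg (· ≫ η[G].left) (Category.id_comp v)

theorem detG_restrict {V : Scheme.{u}} (v : V ⟶ S) {𝒬 : SubClass G} {n : ℕ} (hD : DetG 𝒬 n) :
    DetG (restrict v 𝒬) n := by
  intro S' f H H' _ _ h h' hQ hQ' hh
  have h1 := hD (f ≫ v) (down v h) (down v h') hQ hQ' (fun C _ c a ha => by
    rw [pt_down_iff, pt_down_iff]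
    refine exists_congr fun w => hh C c _ ?_
    obtain ⟨N, hN, hN'⟩ := ha
    refine ⟨N, hN, ?_⟩
    have e1 : (pullback.lift a (c ≫ f) w : Spec (CommRingCat.of C) ⟶ pullback G.hom v) ≫ (Red.bc v G).hom =
        c ≫ f := pullback.lift_snd _ _ _
    rw [e1]
    apply pullback.hom_ext
    · rw [Category.assoc, pullback.lift_fst, Category.assoc, eta_bc_fst, hN', w]
      simp only [Category.assoc]
    · rw [Category.assoc, pullback.lift_snd, Category.assoc]
      have e2 : η[Red.bc v G].left ≫ pullback.snd G.hom v = 𝟙 _ := Over.w η[Red.bc v G]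
      rw [e2]
      exact (Category.comp_id _).symm)
  intro X y a
  rw [pt_iff_down, pt_iff_down, h1]

/-- `DetG` implies injectivity of the map to the Grassmannian, in every affine chart. -/
theorem isInj {R : Type u} [CommRing R] {v : Spec (CommRingCat.of R) ⟶ S}
    {A : Type u} [CommRing A] [Algebra R A] [PtGrp R A] (K : AffChart v G A) {n : ℕ} {J : Type} [Fintype J]
    [DecidableEq J] (bs : Gen J R (Wn R A n)) {𝒬 : SubClass G} (hD : DetG 𝒬 n) {V : Scheme.{u}}
    (w : V ⟶ Spec (CommRingCat.of R)) : IsInj K 𝒬 bs w := by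
  intro T₀ x x' hx
  let T : Over (Spec (CommRingCat.of R)) := (Over.map w).obj T₀
  change 𝒬.subsF.obj (op ((Over.map v).obj T)) at x x'
  change ∀ (B : CommRingCat.{u}) (t : Spec B ⟶ T.left), _ at hx
  obtain ⟨H, _, h, hQ, rfl⟩ := 𝒬.exists_ofSub x
  obtain ⟨H', _, h', hQ', rfl⟩ := 𝒬.exists_ofSub x'
  rw [𝒬.ofSub_eq_iff]
  refine hD (T.hom ≫ v) h h' hQ hQ' fun C _ c a ha => ?_
  by_cases w : a ≫ G.hom = c ≫ T.hom ≫ v
  · let _ : Algebra R C := algOf (B := CommRingCat.of C) (c ≫ T.hom)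
    have hw : sp (algebraMap R C) = c ≫ T.hom := Spec.map_preimage _
    obtain ⟨g, rfl⟩ := exists_ptL K a (by rw [w, hw, Category.assoc])
    rw [infG_iff] at ha
    have h1 := hx (CommRingCat.of C) c
    obtain ⟨I₁, hI₁⟩ := exists_isRep_condX K (𝒬.ofSub (T := (Over.map v).obj T) hQ) (tOver c (c ≫ T.hom) rfl)
    obtain ⟨I₂, hI₂⟩ := exists_isRep_condX K (𝒬.ofSub (T := (Over.map v).obj T) hQ') (tOver c (c ≫ T.hom) rfl)
    have h2 := iff_of_Lsub_eq (bs := bs) (IsRep.trunc hI₁ n) (IsRep.trunc hI₂ n) h1 (AlgHom.id R C) (ofPt g ha)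
    have hQ₁ : 𝒬.Q (T.hom ≫ v) h := hQ
    have hQ₁' : 𝒬.Q (T.hom ≫ v) h' := hQ'
    have e1 := condX_ofSub K hQ₁ (tOver c (c ≫ T.hom) rfl)
    have e2 := condX_ofSub K hQ₁' (tOver c (c ≫ T.hom) rfl)
    have h3 : trunc n (cond K h (tOver c (c ≫ T.hom) rfl)) C (AlgHom.id R C) (ofPt g ha) ↔
        trunc n (cond K h' (tOver c (c ≫ T.hom) rfl)) C (AlgHom.id R C) (ofPt g ha) := by
      rw [← e1, ← e2]
      exact h2
    have e3 : (specMap R (AlgHom.id R C)).left ≫ (tOver c (c ≫ T.hom) rfl).left = c := by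
      rw [specMap_id]
      exact Category.id_comp _
    have e4 : ∀ {H₁ : Over T.left} (h₁ : H₁ ⟶ Red.bc (T.hom ≫ v) G),
        trunc n (cond K h₁ (tOver c (c ≫ T.hom) rfl)) C (AlgHom.id R C) (ofPt g ha) ↔
          H647.SubPt.Pt h₁ c (ptL K g) := by
      intro H₁ h₁
      exact iff_of_eq (congrArg (fun z => H647.SubPt.Pt h₁ z (ptL K g)) e3)
    exact (e4 h).symm.trans (h3.trans (e4 h'))
  · constructor
    · intro h1
      exact (w h1.w.symm).elim
    · intro h1
      exact (w h1.w.symm).elim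

end Groth.Agent.RedSub.H660.DetG
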