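import Groth.Agent.RedSub.H660.ConjRep
import Groth.Agent.Ega2.SigmaMap
import Groth.Agent.Models2.LinEmb
import Groth.Agent.Dix.ProjProper

/-!
# Finite disjoint unions over `S`; gluing of classes of subgroups

* `smooth_sig`, `isProper_sig`, `exists_closed_proj` : properties of finite disjoint unions `sig X`;
* `exists_representableBy_union` : if the subgroups of class `𝒬` are étale locally of one of the classes `𝒬' d`, the
  classes `𝒬' d` being disjoint, then `𝒬` is represented by the disjoint union of the schemes representing the `𝒬' d`.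
-/

set_option autoImplicit false
universe u

open CategoryTheory CategoryTheory.Limits AlgebraicGeometry Opposite MonoidalCategory CartesianMonoidalCategory
  MonObj GrpObj

namespace Groth.Agent.RedSub.H660.FinCop

open Groth.Agent.Sga3B Groth.Agent.Sga3B.BcPts Groth.Agent.Sga3B.MT Groth.Agent.Sga3B.RepDescent
open Groth.Agent.RedSub.H647.SubPt Groth.Agent.RedSub.H647.SubF Groth.Agent.RedSub.H647.ClosedF
open Groth.Agent.RedSub.H660.ConjRep Groth.Agent.RedSub.H647.SubF.SubClass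

section geom

variable {S : Scheme.{u}}

lemma smooth_sig {J : Type u} (X : J → Over S) (h : ∀ j, Smooth (X j).hom) : Smooth (sig X).hom :=
  IsZariskiLocalAtSource.sigmaDesc (P := @Smooth) h

lemma isProper_sig {A : CommRingCat.{u}} {J : Type u} [Finite J] (X : J → Over (Spec A))
    (h : ∀ j, IsProper (X j).hom) : IsProper (sig X).hom :=
  Ega2.SigmaMap.isProper_sigmaDesc (fun j => (X j).hom) h

/-- a proper monomorphic immersion is a closed immersion -/
lemma isClosedImmersion_of_isProper {X Y : Scheme.{u}} (f : X ⟶ Y) [IsImmersion f] [IsProper f] :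
    IsClosedImmersion f :=
  IsClosedImmersion.of_isPreimmersion f (Scheme.Hom.isClosedMap f).isClosed_range

/-- A finite disjoint union of closed subschemes of projective spaces over an affine scheme is a closed subscheme of
a projective space. -/
theorem exists_closed_proj {A : CommRingCat.{u}} {J : Type u} [Finite J] (X : J → Over (Spec A)) (r : J → ℕ)
    (c : ∀ j, (X j).left ⟶ CohB1.ProjSpaceOver (r j) (Spec A)) (hc : ∀ j, IsClosedImmersion (c j))
    (hcp : ∀ j, c j ≫ CohB1.ProjSpaceOver.toBase (r j) (Spec A) = (X j).hom) :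
    ∃ (m : ℕ) (e : (sig X).left ⟶ CohB1.ProjSpaceOver m (Spec A)), IsClosedImmersion e ∧
      e ≫ CohB1.ProjSpaceOver.toBase m (Spec A) = (sig X).hom := by
  have h1 : ∀ j, IsProper (X j).hom := fun j => by
    rw [← hcp j]
    have := hc j
    have := Dix.ProjProper.isProper_toBase (r j) (Spec A)
    infer_instance
  have h2 : IsProper (sig X).hom := isProper_sig X h1
  have h3 : CompactSpace (sig X).left := by
    have : QuasiCompact (sig X).hom := inferInstance
    exact (quasiCompact_iff_compactSpace (f := (sig X).hom)).1 this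
  obtain ⟨m, e, he, he'⟩ := Models2.LinEmb.exists_isImmersion_of_coprod (Q := (sig X).left) (H := (sig X).left) (𝟙 _)
    (sig X).hom (fun j => (X j).left) (Iso.refl _) r c (fun j => have := hc j; inferInstance) (fun j => by
      rw [hcp j]
      change _ = Sigma.ι (fun j => (X j).left) j ≫ 𝟙 _ ≫ Sigma.desc _
      rw [Category.id_comp, Sigma.ι_desc])
  rw [Category.id_comp] at he'
  have := Dix.ProjProper.isProper_toBase m (Spec A)
  have h4 : IsProper (e ≫ CohB1.ProjSpaceOver.toBase m (Spec A)) := by rwa [he']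
  have h5 : IsProper e := IsProper.of_comp e (CohB1.ProjSpaceOver.toBase m (Spec A))
  exact ⟨m, e, isClosedImmersion_of_isProper e, he'⟩

end geom

section union

variable {S : Scheme.{u}} {G : Over S} [GrpObj G] {𝒬 : SubClass G} {J : Type u} {𝒬' : J → SubClass G}

/-- the inclusion of functors of sections for a smaller class -/
noncomputable def inclS {𝒬₁ 𝒬₂ : SubClass G} (h : ∀ {S' : Scheme.{u}} (f : S' ⟶ S) {H : Over S'} [GrpObj H]
    (h : H ⟶ Red.bc f G), 𝒬₁.Q f h → 𝒬₂.Q f h) {T : Over S} (x : 𝒬₁.subsF.obj (op T)) : 𝒬₂.subsF.obj (op T) :=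
  𝒬₂.mkS (𝒬₁.val x) (by
    obtain ⟨H, _, k, hQ, e⟩ := 𝒬₁.isSub_iff.1 (𝒬₁.val_isSub x)
    exact 𝒬₂.isSub_iff.2 ⟨H, _, k, h T.hom k hQ, e⟩)

@[simp] lemma val_inclS {𝒬₁ 𝒬₂ : SubClass G} (h : ∀ {S' : Scheme.{u}} (f : S' ⟶ S) {H : Over S'} [GrpObj H]
    (h : H ⟶ Red.bc f G), 𝒬₁.Q f h → 𝒬₂.Q f h) {T : Over S} (x : 𝒬₁.subsF.obj (op T)) :
    𝒬₂.val (inclS h x) = 𝒬₁.val x := rfl

lemma map_inclS {𝒬₁ 𝒬₂ : SubClass G} (h : ∀ {S' : Scheme.{u}} (f : S' ⟶ S) {H : Over S'} [GrpObj H]
    (h : H ⟶ Red.bc f G), 𝒬₁.Q f h → 𝒬₂.Q f h) {T T' : Over S} (g : T' ⟶ T) (x : 𝒬₁.subsF.obj (op T)) :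
    𝒬₂.subsF.map g.op (inclS h x) = inclS h (𝒬₁.subsF.map g.op x) := 𝒬₂.val_injective rfl

/-- **Gluing of classes**: if the subgroups of class `𝒬` are étale locally of exactly one of the classes `𝒬' d`. -/
theorem exists_representableBy_union (hloc : 𝒬.IsLocal (fun {_ _ _} q => EtCov q))
    (hsub : ∀ (d : J) {S' : Scheme.{u}} (f : S' ⟶ S) {H : Over S'} [GrpObj H] (h : H ⟶ Red.bc f G),
      (𝒬' d).Q f h → 𝒬.Q f h)
    (hcov : ∀ {S' : Scheme.{u}} (f : S' ⟶ S) {H : Over S'} [GrpObj H] (h : H ⟶ Red.bc f G), 𝒬.Q f h →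
      ∀ s : S', ∃ (V : Scheme.{u}) (π : V ⟶ S'), Etale π ∧ s ∈ Set.range π ∧ ∃ d : J, (𝒬' d).Q (π ≫ f) (bcSub π h))
    (hdisj : ∀ (d d' : J) {S' : Scheme.{u}} (f : S' ⟶ S) {H : Over S'} [GrpObj H] (h : H ⟶ Red.bc f G),
      Nonempty S' → (𝒬' d).Q f h → (𝒬' d').Q f h → d = d')
    (Z : J → Over S) (r : ∀ d, (𝒬' d).subsF.RepresentableBy (Z d)) :
    Nonempty (𝒬.subsF.RepresentableBy (sig Z)) := by
  have hF : IsEtSheaf 𝒬.subsF := 𝒬.isEtSheaf_subsF hloc
  let ξ : ∀ d, 𝒬.subsF.obj (op (Z d)) := fun d => inclS (hsub d) ((r d).homEquiv (𝟙 (Z d)))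
  have hξ : ∀ (d : J) {T : Over S} (a : T ⟶ Z d), 𝒬.subsF.map a.op (ξ d) = inclS (hsub d) ((r d).homEquiv a) := by
    intro d T a
    rw [map_inclS, ← (r d).homEquiv_comp, Category.comp_id]
  suffices hh : ∃ r : 𝒬.subsF.RepresentableBy (sig Z), ∀ i, r.homEquiv (sigι Z i) = ξ i by
    obtain ⟨R, -⟩ := hh
    exact ⟨R⟩
  refine QuotSheaf.exists_representableBy hF Z (sig Z) (sigι Z) ξ
    (gen_of_smooth Z (sig Z) (sigι Z) (fun i => inferInstance) (exists_sigι Z)) ?_ ?_
  · intro T x t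
    obtain ⟨H, _, h, hQ, rfl⟩ := 𝒬.exists_ofSub x
    obtain ⟨V, π, h1, h2, d, h3⟩ := hcov T.hom h hQ t
    let T' : Over S := Over.mk (π ≫ T.hom)
    let f : T' ⟶ T := Over.homMk π
    refine ⟨T', f, h1, h2, d, (r d).homEquiv.symm ((𝒬' d).ofSub (T := T') h3), ?_⟩
    rw [hξ, Equiv.apply_symm_apply]
    have h4 := hsub d _ _ h3
    have e1 : inclS (hsub d) ((𝒬' d).ofSub (T := T') h3) = 𝒬.ofSub (T := T') h4 := 𝒬.val_injective rfl
    rw [e1, eq_comm, 𝒬.map_ofSub_eq_iff]
    intro X y γ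
    exact pt_bcSub π h y γ
  · intro i j T a b
    rw [hξ, hξ]
    by_cases hT : Nonempty T.left
    · constructor
      · intro h
        obtain ⟨t⟩ := hT
        obtain rfl := eq_of_sigι_eq Z t a b h
        rw [cancel_mono] at h
        rw [h]
      · intro h
        have h1 : (𝒬' i).val ((r i).homEquiv a) = (𝒬' j).val ((r j).homEquiv b) := congrArg 𝒬.val h
        obtain ⟨H, _, k, hk, ek⟩ := (𝒬' i).exists_ofSub ((r i).homEquiv a)
        obtain ⟨H', _, k', hk', ek'⟩ := (𝒬' j).exists_ofSub ((r j).homEquiv b)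
        have h2 := (𝒬' i).isMonHom hk
        have h3 := (𝒬' i).isClosedImmersion hk
        have h4 := (𝒬' j).isMonHom hk'
        have h5 := (𝒬' j).isClosedImmersion hk'
        have h6 := (𝒬' i).mono hk
        have e : kerI k = kerI k' := by
          rw [← (𝒬' i).val_ofSub hk, ← (𝒬' j).val_ofSub hk', ek, ek', h1]
        obtain rfl := hdisj i j T.hom k hT hk
          ((𝒬' j).of_pt rfl (fun X y γ => ((kerI_eq_iff k k').1 e X y γ).symm) hk')
        have h7 : (r i).homEquiv a = (r i).homEquiv b := (𝒬' i).val_injective h1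
        rw [(r i).homEquiv.injective h7]
    · rw [not_nonempty_iff] at hT
      have h1 : a ≫ sigι Z i = b ≫ sigι Z j := by
        apply Over.OverMorphism.ext
        exact (isInitialOfIsEmpty (X := T.left)).hom_ext _ _
      have h2 : ∀ y z : 𝒬.subsF.obj (op T), y = z := fun y z =>
        QuotSheaf.sheaf_ext hF (K := PEmpty) (fun k => k.elim) (fun k => k.elim) (fun k => k.elim)
          (fun t => (hT.false t).elim) (fun k => k.elim)
      exact ⟨fun _ => h2 _ _, fun _ => h1⟩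

end union

end Groth.Agent.RedSub.H660.FinCop
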