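import Groth.Agent.Sga3B.WordGen
import Groth.Agent.Sga3B.PinCover
import Groth.Agent.Sga3B.PinEt876
import Groth.Agent.Sga3B.CellUP
import Mathlib.RingTheory.Valuation.ValuationRing

/-!
# The Iwasawa decomposition `G(K) = G(V) B(K)` of a pinned group

`E : PinCell P b R A` a pinned split group in functor-of-points form.

* `wa_eq` : `u_a(x) u_{-a}(-1/x) u_a(x) = n_a · a^∨(x)⁻¹` for every unit `x`;
* `bor E B` : the standard Borel subgroup (products of positive root elements times torus);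
* `iwasawa` : `V` a valuation ring with algebraically closed fraction field `K` over `R`: every
  `g ∈ G(K)` is `g₀ q`, `g₀ ∈ G(V)`, `q ∈ B(K)`.
* `iwasawa_of_closure` : the same for any `K` such that `G(K)` is generated by the torus and the root
  groups of the simple roots and their negatives.
-/

set_option autoImplicit false
set_option linter.unusedSectionVars false
universe u

open Polynomial LaurentPolynomial

namespace Groth.Agent.RedSub.H660.Iwasawa

open Groth.Agent.Sga3B Groth.Agent.Sga3B.Cell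
open Groth.Agent.Sga3B.Cell.Datum (UP UP_mul UP_inv UP_conj)
open Groth.Agent.Sga3B.Word

variable {idx M : Type} [Fintype idx] [AddCommGroup M] [Module.Free ℤ M]
    [Module.Finite ℤ M] {P : RootPairing idx ℤ M (Module.Dual ℤ M)} {b : P.Base}
    {R A : Type u} [CommRing R] [CommRing A] [Algebra R A] [PtGrp R A] (E : PinCell P b R A)
    {B : Type u} [CommRing B] [Algebra R B]

lemma i_mul_uu (c : idx) (t : TPt M B) (x : B) :
    E.i B t * E.uu c B x = E.uu c B (TPt.ch (P.root c) t * x) * E.i B t := by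
  rw [← E.rel, inv_mul_cancel_right]

lemma uu_mul_i (c : idx) (t : TPt M B) (x : B) :
    E.uu c B x * E.i B t = E.i B t * E.uu c B (TPt.ch (P.root c) t⁻¹ * x) := by
  rw [i_mul_uu, ← mul_assoc, ch_mul_ch_inv, one_mul]

lemma coroot_root_self (a : idx) (hpe : P.toLinearMap = Module.Dual.eval ℤ M) :
    P.coroot a (P.root a) = 2 := by
  have := P.root_coroot_two a
  rw [hpe] at this
  exact this

/-- `u_a(x) u_{-a}(-1/x) u_a(x) = n_a a^∨(x)⁻¹` -/
theorem wa_eq {a : idx} (ha : a ∈ b.support) (x : Bˣ) :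
    E.uu a B x * E.uu (P.reflectionPerm a a) B (-(x⁻¹ : Bˣ)) * E.uu a B x =
      E.nn a B * (E.i B (TPt.cow (P.coroot a) x))⁻¹ := by
  set t : TPt M B := TPt.cow (P.coroot a) x with ht
  have h2 : P.coroot a (P.root a) = 2 := coroot_root_self a E.pairing_eq
  have hch : TPt.ch (P.root a) t = (x : B) ^ 2 := by
    rw [ht, TPt.ch_cow, h2]
    norm_cast
  have hch' : TPt.ch (P.root (P.reflectionPerm a a)) t = ((x⁻¹ : Bˣ) : B) ^ 2 := by
    rw [ht, TPt.ch_cow, P.root_reflectionPerm, P.reflection_apply_self, map_neg, h2, zpow_neg]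
    have : (x ^ (2 : ℤ) : Bˣ) = x ^ 2 := by norm_cast
    rw [this, ← inv_pow]
    push_cast
    rfl
  -- the rank one relation
  have hr := E.rank1 a ha ((x : B) ^ 2 - x) ((x⁻¹ : Bˣ) : B) x (by
    have := x.mul_inv
    linear_combination (1 - (x : B)) * this)
  -- take inverses
  have hr' := congrArg (fun z => z⁻¹) hr
  simp only [mul_inv_rev, ← E.uu_neg] at hr'
  -- `n_a = u_a(x) u_{-a}(-1/x) u_a(x) t`
  rw [eq_mul_inv_iff_mul_eq, PinCell.nn]
  have e1 : E.uu a B (x : B) = E.uu a B (-((x : B) ^ 2 - x)) * E.uu a B ((x : B) ^ 2) := by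
    rw [← E.uu_add]; congr 1; ring
  have e2 : E.uu a B (x : B) * E.uu (P.reflectionPerm a a) B (-(x⁻¹ : Bˣ)) * E.uu a B x * E.i B t =
      E.uu a B (x : B) * (E.uu (P.reflectionPerm a a) B (-(x⁻¹ : Bˣ)) *
        E.uu a B (-((x : B) ^ 2 - x))) * E.uu a B ((x : B) ^ 2) * E.i B t := by
    conv_lhs => rw [mul_assoc (E.uu a B (x : B)) _ (E.uu a B (x : B))]
    conv_lhs => enter [1, 2, 2]; rw [e1]
    simp only [mul_assoc]
  have e3 : (x⁻¹ : Bˣ) * ((x : B) ^ 2 - x) = x - 1 := by
    have := x.inv_mul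
    linear_combination ((x : B) - 1) * this
  rw [e2, hr', e3]
  have e4 : E.uu a B ((x : B) ^ 2) * E.i B t = E.i B t * E.uu a B 1 := by
    rw [i_mul_uu, hch, mul_one]
  have e5 : E.uu (P.reflectionPerm a a) B (-(((x⁻¹ : Bˣ) : B) * (x⁻¹ : Bˣ))) =
      E.i B t * E.uu (P.reflectionPerm a a) B (-1) * (E.i B t)⁻¹ := by
    rw [E.rel, hch']
    congr 1
    ring
  have e6 : E.uu a B (x : B) * E.uu a B (-((x : B) - 1)) = E.uu a B 1 := by
    rw [← E.uu_add]; congr 1; ring
  rw [e5]
  simp only [mul_assoc]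
  rw [e4, inv_mul_cancel_left, inv_mul_cancel_left, ← mul_assoc (E.uu a B (x : B)), e6]

/-! ### The group `U⁺` and the groups `U^{(a)}` -/

section UP

lemma reflectionPerm_self_self (a : idx) :
    P.reflectionPerm (P.reflectionPerm a a) (P.reflectionPerm a a) = a := by
  apply P.root.injective
  rw [P.root_reflectionPerm, P.reflection_apply_self, P.root_reflectionPerm,
    P.reflection_apply_self, neg_neg]

lemma root_neg (a : idx) : P.root (P.reflectionPerm a a) = - P.root a := by
  rw [P.root_reflectionPerm, P.reflection_apply_self]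

lemma isPos_neg_iff (a : idx) : b.IsPos (P.reflectionPerm a a) ↔ ¬ b.IsPos a := by
  have h0 : b.height (P.reflectionPerm a a) = - b.height a := b.height_reflectionPerm_self a
  rw [RootPairing.Base.isPos_iff, RootPairing.Base.isPos_iff, h0]
  have := b.height_ne_zero a
  omega

/-- the weight vector of a cocharacter, as a point of the torus over Laurent polynomials -/
noncomputable def tht (lam : M →+ ℤ) (B : Type u) [CommRing B] : TPt M B[T;T⁻¹] :=
  MonoidHom.toHomUnits
    { toFun := fun m => T (lam m.toAdd)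
      map_one' := by simp
      map_mul' := fun a b => by rw [toAdd_mul, map_add, T_add] }

@[simp] lemma ch_tht (lam : M →+ ℤ) (m : M) :
    TPt.ch m (tht lam B) = T (lam m) := rfl

/-- the group of products of root elements of positive weight -/
def UPg (lam : M →+ ℤ) (B : Type u) [CommRing B] [Algebra R B] : Subgroup (Pt R A B) where
  carrier := E.toDatum.UP (allList b) (fun a => lam (P.root a)) B
  one_mem' := ⟨fun _ => 0, fun _ _ => rfl, by
    have := E.toDatum.cell_zero (B := B) (allList b) 1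
    rw [map_one] at this
    exact this.symm⟩
  mul_mem' := fun h h' => UP_mul (D := E.toDatum) (PinEt876.etOn_one E) (map_one _)
    (θ := tht lam B) (fun _ => rfl) h h'
  inv_mem' := fun h => UP_inv (D := E.toDatum) (PinEt876.etOn_one E) (map_one _)
    (θ := tht lam B) (fun _ => rfl) h

lemma mem_UPg {lam : M →+ ℤ} {g : Pt R A B} : g ∈ UPg E lam B ↔
    ∃ y : idx → B, (∀ a, lam (P.root a) ≤ 0 → y a = 0) ∧ g = E.cell y 1 := Iff.rfl

/-- a cocharacter which is positive exactly on the positive roots -/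
def Dom (b : P.Base) (lam : M →+ ℤ) : Prop := ∀ a, (b.IsPos a → 0 < lam (P.root a)) ∧
  (¬ b.IsPos a → lam (P.root a) < 0)

lemma exists_dom (b : P.Base) : ∃ lam : M →+ ℤ, Dom b lam := by
  obtain ⟨lam, n, hn, h⟩ := PinComb.exists_height_functional b
  refine ⟨lam, fun a => ⟨fun ha => ?_, fun ha => ?_⟩⟩
  · rw [h]; rw [RootPairing.Base.isPos_iff] at ha; positivity
  · rw [RootPairing.Base.isPos_iff, not_lt] at ha
    have h2 := b.height_ne_zero a
    rw [h]
    have : b.height a < 0 := lt_of_le_of_ne ha h2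
    nlinarith

lemma prod_eq_one_of {L : List idx} {x : idx → B} (h : ∀ a ∈ L, x a = 0) :
    (L.map (fun a => E.uu a B (x a))).prod = 1 := by
  apply List.prod_eq_one
  intro y hy
  obtain ⟨a, ha, rfl⟩ := List.mem_map.mp hy
  rw [h a ha, E.uu_zero]

lemma cell_eq_posP {y : idx → B} (hy : ∀ a, ¬ b.IsPos a → y a = 0) : E.cell y 1 = posP E y := by
  rw [cell_eq_mul, map_one, mul_one]
  have : negP E y = 1 := prod_eq_one_of E (fun a ha => hy a ((mem_negList b).mp ha))
  rw [this, one_mul]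

lemma posP_congr {x y : idx → B} (h : ∀ a, b.IsPos a → x a = y a) : posP E x = posP E y := by
  unfold posP
  congr 1
  apply List.map_congr_left
  intro a ha
  rw [h a ((mem_posList b).mp ha)]

lemma mem_UPg_dom {lam : M →+ ℤ} (hl : Dom b lam) {g : Pt R A B} : g ∈ UPg E lam B ↔
    ∃ x : idx → B, g = posP E x := by
  classical
  rw [mem_UPg]
  constructor
  · rintro ⟨y, hy, rfl⟩
    exact ⟨y, cell_eq_posP E (fun a ha => hy a ((hl a).2 ha).le)⟩
  · rintro ⟨x, rfl⟩
    refine ⟨fun a => if b.IsPos a then x a else 0, fun a ha => ?_, ?_⟩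
    · have : ¬ b.IsPos a := fun h => by have := (hl a).1 h; omega
      simp [this]
    · rw [cell_eq_posP E (fun a ha => by simp [ha])]
      exact posP_congr E (fun a ha => by simp [ha])

/-- the group `U⁺` -/
def Upos (B : Type u) [CommRing B] [Algebra R B] : Subgroup (Pt R A B) where
  carrier := {g | ∃ x : idx → B, g = posP E x}
  one_mem' := by
    obtain ⟨lam, hl⟩ := exists_dom b
    exact (mem_UPg_dom E hl).1 (UPg E lam B).one_mem
  mul_mem' := by
    obtain ⟨lam, hl⟩ := exists_dom b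
    intro g g' h h'
    exact (mem_UPg_dom E hl).1 ((UPg E lam B).mul_mem ((mem_UPg_dom E hl).2 h)
      ((mem_UPg_dom E hl).2 h'))
  inv_mem' := by
    obtain ⟨lam, hl⟩ := exists_dom b
    intro g h
    exact (mem_UPg_dom E hl).1 ((UPg E lam B).inv_mem ((mem_UPg_dom E hl).2 h))

lemma mem_Upos {g : Pt R A B} : g ∈ Upos E B ↔ ∃ x : idx → B, g = posP E x := Iff.rfl

lemma i_mul_posP (t : TPt M B) (x : idx → B) :
    E.i B t * posP E x = posP E (fun a => TPt.ch (P.root a) t * x a) * E.i B t :=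
  E.toDatum.i_mul_prod (posList b) x t

lemma conj_Upos (t : TPt M B) {g : Pt R A B} (hg : g ∈ Upos E B) :
    E.i B t * g * (E.i B t)⁻¹ ∈ Upos E B := by
  obtain ⟨x, rfl⟩ := hg
  rw [i_mul_posP, mul_inv_cancel_right]
  exact ⟨_, rfl⟩

/-- the standard Borel subgroup `U⁺ T` -/
def bor (B : Type u) [CommRing B] [Algebra R B] : Subgroup (Pt R A B) where
  carrier := {g | ∃ u ∈ Upos E B, ∃ t : TPt M B, g = u * E.i B t}
  one_mem' := ⟨1, (Upos E B).one_mem, 1, by simp⟩
  mul_mem' := by
    rintro _ _ ⟨u, hu, t, rfl⟩ ⟨u', hu', t', rfl⟩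
    refine ⟨u * (E.i B t * u' * (E.i B t)⁻¹), (Upos E B).mul_mem hu (conj_Upos E t hu'),
      t * t', ?_⟩
    rw [map_mul]
    group
  inv_mem' := by
    rintro _ ⟨u, hu, t, rfl⟩
    refine ⟨E.i B t⁻¹ * u⁻¹ * (E.i B t⁻¹)⁻¹, conj_Upos E _ ((Upos E B).inv_mem hu), t⁻¹, ?_⟩
    rw [i_inv]
    group

lemma mem_bor {g : Pt R A B} : g ∈ bor E B ↔
    ∃ (x : idx → B) (t : TPt M B), g = posP E x * E.i B t := by
  constructor
  · rintro ⟨_, ⟨x, rfl⟩, t, rfl⟩
    exact ⟨x, t, rfl⟩
  · rintro ⟨x, t, rfl⟩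
    exact ⟨_, ⟨x, rfl⟩, t, rfl⟩

lemma i_mem_bor (t : TPt M B) : E.i B t ∈ bor E B := ⟨1, (Upos E B).one_mem, t, by simp⟩

lemma Upos_le_bor : Upos E B ≤ bor E B := fun u hu => ⟨u, hu, 1, by simp⟩

lemma uu_mem_Upos {c : idx} (hc : b.IsPos c) (x : B) : E.uu c B x ∈ Upos E B := by
  classical
  exact ⟨Pi.single c x, (posP_single E hc x).symm⟩

lemma uu_mem_bor {c : idx} (hc : b.IsPos c) (x : B) : E.uu c B x ∈ bor E B :=
  Upos_le_bor E (uu_mem_Upos E hc x)

/-! ### the group `U^{(a)}` -/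

/-- a cocharacter vanishing on the simple root `a`, positive on the other positive roots -/
lemma exists_lamA {a : idx} (ha : a ∈ b.support) : ∃ lam : M →+ ℤ, lam (P.root a) = 0 ∧
    ∀ c, b.IsPos c → c ≠ a → 0 < lam (P.root c) := by
  obtain ⟨lam, hl⟩ := exists_dom b
  refine ⟨lam + lam.comp (P.reflection a).toLinearMap.toAddMonoidHom, ?_, ?_⟩
  · change lam (P.root a) + lam (P.reflection a (P.root a)) = 0
    rw [P.reflection_apply_self, map_neg, add_neg_cancel]
  · intro c hc hca
    change 0 < lam (P.root c) + lam (P.reflection a (P.root c))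
    rw [← P.root_reflectionPerm]
    have h1 := (hl c).1 hc
    have h2 := (hl (P.reflectionPerm a c)).1 (PinComb.isPos_reflectionPerm_of_forall b ha hc (by
      intro t ht
      rcases PinComb.simple_of_smul b ha ht with h | h
      · rw [h, one_smul] at ht
        exact hca (P.root.injective ht)
      · rw [h, neg_smul, one_smul] at ht
        have h3 : c = P.reflectionPerm a a := by
          apply P.root.injective
          rw [root_neg, ht]
        rw [h3, isPos_neg_iff] at hc
        exact hc (RootPairing.Base.isPos_of_mem_support ha)))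
    omega

variable {a : idx} (ha : a ∈ b.support) {lam : M →+ ℤ} (hla : lam (P.root a) = 0)
  (hlc : ∀ c, b.IsPos c → c ≠ a → 0 < lam (P.root c))

include hla hlc in
lemma UPg_le_Upos : UPg E lam B ≤ Upos E B := by
  intro g hg
  obtain ⟨y, hy, rfl⟩ := hg
  refine ⟨y, cell_eq_posP E (fun c hc => hy c ?_)⟩
  by_cases hca : P.reflectionPerm c c = a
  · have : P.root c = - P.root a := by rw [← hca, root_neg, neg_neg]
    change lam (P.root c) ≤ 0
    rw [this, map_neg, hla, neg_zero]
  · have h1 := hlc (P.reflectionPerm c c) ((isPos_neg_iff c).2 hc) hca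
    rw [root_neg, map_neg] at h1
    change lam (P.root c) ≤ 0
    omega

include ha hla hlc in
/-- every element of `U⁺` is the product of an element of `U^{(a)}` and one of `U_a` -/
lemma exists_UPg_mul {g : Pt R A B} (hg : g ∈ Upos E B) :
    ∃ p ∈ UPg E lam B, ∃ x : B, g = p * E.uu a B x := by
  classical
  obtain ⟨x, rfl⟩ := hg
  have hpa : b.IsPos a := RootPairing.Base.isPos_of_mem_support ha
  obtain ⟨z, hz, hz'⟩ := exists_posP_mul E x (Pi.single a (-(x a)))
  refine ⟨posP E z, ?_, x a, ?_⟩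
  · refine mem_UPg E |>.2 ⟨fun c => if b.IsPos c then z c else 0, fun c hc => ?_, ?_⟩
    · by_cases h : b.IsPos c
      · have hca : c = a := by
          by_contra hne
          have := hlc c h hne
          omega
        change (if b.IsPos c then z c else 0) = 0
        rw [if_pos h, hca, hz' a ha, Pi.single_eq_same]
        ring
      · exact if_neg h
    · rw [cell_eq_posP E (fun a ha => by simp [ha])]
      exact posP_congr E (fun a ha => by simp [ha])
  · rw [← hz, posP_single E hpa, mul_assoc, ← E.uu_add, neg_add_cancel, E.uu_zero, mul_one]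

lemma map_lC_uu (c : idx) (x : B) : Pt.map (lC R B) (E.uu c B x) =
    E.uu c B[T;T⁻¹] (LaurentPolynomial.C x) := by
  rw [E.uu_nat, lC_apply]

lemma conj_UPg_of_comm {g : Pt R A B} (hg : Pt.map (lC R B) g * E.i _ (tht lam B) =
    E.i _ (tht lam B) * Pt.map (lC R B) g) {p : Pt R A B} (hp : p ∈ UPg E lam B) :
    g * p * g⁻¹ ∈ UPg E lam B :=
  UP_conj (D := E.toDatum) (PinEt876.etOn_one E) (map_one _)
    (θ := tht lam B) (θ' := tht lam B) (fun _ => rfl) (fun _ => rfl) (h := g) (by
      change Pt.map (lC R B) g * E.i _ (tht lam B) * (Pt.map (lC R B) g)⁻¹ = E.i _ (tht lam B)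
      rw [hg, mul_inv_cancel_right]) hp

/-- the elements commuting with the cocharacter `lam` -/
def cent (lam : M →+ ℤ) (B : Type u) [CommRing B] [Algebra R B] : Subgroup (Pt R A B) where
  carrier := {g | Pt.map (lC R B) g * E.i _ (tht lam B) = E.i _ (tht lam B) * Pt.map (lC R B) g}
  one_mem' := by simp [Pt.map_one]
  mul_mem' := by
    intro g g' h h'
    rw [Set.mem_ofPred_eq] at *
    rw [Pt.map_mul, mul_assoc, h', ← mul_assoc, h, mul_assoc]
  inv_mem' := by
    intro g h
    rw [Set.mem_ofPred_eq] at *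
    rw [Pt.map_inv, inv_mul_eq_iff_eq_mul, ← mul_assoc, h, mul_inv_cancel_right]

lemma mem_cent {g : Pt R A B} : g ∈ cent E lam B ↔
    Pt.map (lC R B) g * E.i _ (tht lam B) = E.i _ (tht lam B) * Pt.map (lC R B) g := Iff.rfl

lemma conj_UPg {g : Pt R A B} (hg : g ∈ cent E lam B) {p : Pt R A B} (hp : p ∈ UPg E lam B) :
    g * p * g⁻¹ ∈ UPg E lam B := conj_UPg_of_comm E hg hp

lemma uu_mem_cent {c : idx} (hc : lam (P.root c) = 0) (x : B) : E.uu c B x ∈ cent E lam B := by
  rw [mem_cent, map_lC_uu, i_mul_uu, ch_tht, hc]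
  simp

lemma i_mem_cent (t : TPt M B) : E.i B t ∈ cent E lam B := by
  rw [mem_cent, E.i_nat, ← map_mul, ← map_mul]
  exact congrArg _ (mul_comm (TPt.map (lC R B) t) (tht lam B))

end UP

/-! ### The decomposition -/

section Iwasawa

variable {V K : Type u} [CommRing V] [IsDomain V] [ValuationRing V] [Field K] [Algebra V K]
  [IsFractionRing V K] [Algebra R V] [Algebra R K] [IsScalarTower R V K]

variable (R V K) in
/-- the inclusion `V → K` as an `R`-algebra map -/
noncomputable def inc : V →ₐ[R] K := IsScalarTower.toAlgHom R V K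

@[simp] lemma inc_apply (z : V) : inc R V K z = algebraMap V K z := rfl

lemma map_nn (a : idx) : Pt.map (inc R V K) (E.nn a V) = E.nn a K := E.nn_nat a _

lemma nn_mem_cent {a : idx} {lam : M →+ ℤ} (hla : lam (P.root a) = 0) : E.nn a B ∈ cent E lam B := by
  have hla' : lam (P.root (P.reflectionPerm a a)) = 0 := by rw [root_neg, map_neg, hla, neg_zero]
  exact (cent E lam B).mul_mem ((cent E lam B).mul_mem (uu_mem_cent E hla _) (uu_mem_cent E hla' _))
    (uu_mem_cent E hla _)

/-- rank one, the opposite root group -/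
lemma exists_neg {a : idx} (ha : a ∈ b.support) {lam : M →+ ℤ} (hla : lam (P.root a) = 0) (z : K) :
    ∃ g₀ : Pt R A V, Pt.map (inc R V K) g₀ ∈ cent E lam K ∧ ∃ q ∈ bor E K,
      E.uu (P.reflectionPerm a a) K z = Pt.map (inc R V K) g₀ * q := by
  have hpa : b.IsPos a := RootPairing.Base.isPos_of_mem_support ha
  have hla' : lam (P.root (P.reflectionPerm a a)) = 0 := by rw [root_neg, map_neg, hla, neg_zero]
  rcases ValuationRing.isInteger_or_isInteger V z with ⟨z₀, rfl⟩ | ⟨z₀, hz₀⟩
  · refine ⟨E.uu (P.reflectionPerm a a) V z₀, ?_, 1, (bor E K).one_mem, ?_⟩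
    · rw [E.uu_nat]
      exact uu_mem_cent E hla' _
    · rw [E.uu_nat, mul_one, inc_apply]
  · by_cases hz : z = 0
    · exact ⟨1, by rw [Pt.map_one]; exact (cent E lam K).one_mem, 1, (bor E K).one_mem, by
        rw [hz, E.uu_zero, Pt.map_one, mul_one]⟩
    · let x : Kˣ := Units.mk0 (-z⁻¹) (neg_ne_zero.2 (inv_ne_zero hz))
      have hx : (x : K) = -z⁻¹ := rfl
      have hx' : -((x⁻¹ : Kˣ) : K) = z := by
        rw [Units.val_inv_eq_inv_val, hx]
        rw [inv_neg, neg_neg, inv_inv]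
      have h1 := wa_eq E ha x
      rw [hx', hx] at h1
      have h2 : E.uu (P.reflectionPerm a a) K z =
          (E.uu a K z⁻¹ * E.nn a K) * ((E.i K (TPt.cow (P.coroot a) x))⁻¹ * E.uu a K z⁻¹) := by
        have h3 : E.uu a K z⁻¹ = (E.uu a K (-z⁻¹))⁻¹ := by rw [E.uu_neg, inv_inv]
        rw [h3, mul_assoc (E.uu a K (-z⁻¹))⁻¹, ← mul_assoc (E.nn a K), ← h1]
        group
      refine ⟨E.uu a V z₀ * E.nn a V, ?_,
        (E.i K (TPt.cow (P.coroot a) x))⁻¹ * E.uu a K z⁻¹, ?_, ?_⟩
      · rw [Pt.map_mul, map_nn, E.uu_nat]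
        exact (cent E lam K).mul_mem (uu_mem_cent E hla _) (nn_mem_cent E hla)
      · exact (bor E K).mul_mem ((bor E K).inv_mem (i_mem_bor E _)) (uu_mem_bor E hpa _)
      · rw [Pt.map_mul, map_nn, E.uu_nat, inc_apply, hz₀]
        exact h2

/-- rank one -/
lemma exists_rankOne {a : idx} (ha : a ∈ b.support) {lam : M →+ ℤ} (hla : lam (P.root a) = 0)
    (x y : K) : ∃ g₀ : Pt R A V, Pt.map (inc R V K) g₀ ∈ cent E lam K ∧ ∃ q ∈ bor E K,
      E.uu a K x * E.uu (P.reflectionPerm a a) K y = Pt.map (inc R V K) g₀ * q := by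
  have hpa : b.IsPos a := RootPairing.Base.isPos_of_mem_support ha
  by_cases hv : 1 + x * y = 0
  · have hx : x ≠ 0 := by rintro rfl; simp at hv
    let v : Kˣ := Units.mk0 x hx
    have hy : y = -((v⁻¹ : Kˣ) : K) := by
      rw [Units.val_inv_eq_inv_val]
      change y = -(x⁻¹)
      field_simp
      linear_combination hv
    have h1 := wa_eq E ha v
    rw [← hy] at h1
    refine ⟨E.nn a V, ?_, (E.i K (TPt.cow (P.coroot a) v))⁻¹ * (E.uu a K x)⁻¹, ?_, ?_⟩
    · rw [map_nn]
      exact nn_mem_cent E hla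
    · exact (bor E K).mul_mem ((bor E K).inv_mem (i_mem_bor E _))
        ((bor E K).inv_mem (uu_mem_bor E hpa _))
    · rw [map_nn, ← mul_assoc, ← h1]
      exact (mul_inv_cancel_right _ _).symm
  · let v : Kˣ := Units.mk0 _ hv
    have h1 := E.rank1 a ha x y v rfl
    obtain ⟨g₀, hg₀, q, hq, h2⟩ := exists_neg (V := V) E ha hla (((v⁻¹ : Kˣ) : K) * y)
    refine ⟨g₀, hg₀, q * (E.i K (TPt.cow (P.coroot a) v) * E.uu a K (((v⁻¹ : Kˣ) : K) * x)),
      (bor E K).mul_mem hq ((bor E K).mul_mem (i_mem_bor E _) (uu_mem_bor E hpa _)), ?_⟩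
    rw [h1, h2]
    simp only [mul_assoc]

variable (V K) in
/-- the set `G(V) B(K)` -/
def IwSet : Set (Pt R A K) := {g | ∃ g₀ : Pt R A V, ∃ q ∈ bor E K, g = Pt.map (inc R V K) g₀ * q}

lemma mem_IwSet {g : Pt R A K} : g ∈ IwSet E V K ↔
    ∃ g₀ : Pt R A V, ∃ q ∈ bor E K, g = Pt.map (inc R V K) g₀ * q := Iff.rfl

lemma map_mul_mem_IwSet {g : Pt R A K} (hg : g ∈ IwSet E V K) (g₁ : Pt R A V) :
    Pt.map (inc R V K) g₁ * g ∈ IwSet E V K := by
  obtain ⟨g₀, q, hq, rfl⟩ := hg
  exact ⟨g₁ * g₀, q, hq, by rw [Pt.map_mul, mul_assoc]⟩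

lemma mul_bor_mem_IwSet {g : Pt R A K} (hg : g ∈ IwSet E V K) {q : Pt R A K} (hq : q ∈ bor E K) :
    g * q ∈ IwSet E V K := by
  obtain ⟨g₀, q', hq', rfl⟩ := hg
  exact ⟨g₀, q' * q, (bor E K).mul_mem hq' hq, by rw [mul_assoc]⟩

lemma bor_mul_neg_mem_IwSet {a : idx} (ha : a ∈ b.support) {q : Pt R A K} (hq : q ∈ bor E K)
    (y : K) : q * E.uu (P.reflectionPerm a a) K y ∈ IwSet E V K := by
  obtain ⟨u, hu, t, rfl⟩ := hq
  obtain ⟨lam, hla, hlc⟩ := exists_lamA ha
  obtain ⟨p, hp, x, rfl⟩ := exists_UPg_mul E ha hla hlc hu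
  rw [mul_assoc, i_mul_uu, ← mul_assoc]
  obtain ⟨g₀, hg₀, q, hq, h⟩ := exists_rankOne (V := V) E ha hla x
    (TPt.ch (P.root (P.reflectionPerm a a)) t * y)
  refine mul_bor_mem_IwSet E ?_ (i_mem_bor E t)
  have h2 : p * E.uu a K x * E.uu (P.reflectionPerm a a) K
      (TPt.ch (P.root (P.reflectionPerm a a)) t * y) =
      Pt.map (inc R V K) g₀ * (((Pt.map (inc R V K) g₀)⁻¹ * p * Pt.map (inc R V K) g₀) * q) := by
    rw [mul_assoc, h]
    group
  rw [h2]
  refine ⟨g₀, _, (bor E K).mul_mem ?_ hq, rfl⟩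
  have h3 := conj_UPg E ((cent E lam K).inv_mem hg₀) hp
  rw [inv_inv] at h3
  exact Upos_le_bor E (UPg_le_Upos E hla hlc h3)

lemma mul_neg_mem_IwSet {a : idx} (ha : a ∈ b.support) {g : Pt R A K} (hg : g ∈ IwSet E V K)
    (y : K) : g * E.uu (P.reflectionPerm a a) K y ∈ IwSet E V K := by
  obtain ⟨g₀, q, hq, rfl⟩ := hg
  rw [mul_assoc]
  exact map_mul_mem_IwSet E (bor_mul_neg_mem_IwSet E ha hq y) g₀

/-- the generators: the torus and the root groups of the simple roots and their negatives -/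
def gens (B : Type u) [CommRing B] [Algebra R B] : Set (Pt R A B) :=
  {g | (∃ t : TPt M B, g = E.i B t) ∨ ∃ a ∈ b.support, ∃ x : B,
    g = E.uu a B x ∨ g = E.uu (P.reflectionPerm a a) B x}

/-- **Iwasawa decomposition** for a field whose points are generated by the simple root groups and
the torus -/
theorem iwasawa_of_closure {g : Pt R A K} (hg : g ∈ Subgroup.closure (gens E K)) :
    g ∈ IwSet E V K := by
  have key : (∀ h ∈ IwSet E V K, h * g ∈ IwSet E V K) ∧
      (∀ h ∈ IwSet E V K, h * g⁻¹ ∈ IwSet E V K) := by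
    induction hg using Subgroup.closure_induction with
    | mem g hg =>
      rcases hg with ⟨t, rfl⟩ | ⟨a, ha, x, rfl | rfl⟩
      · exact ⟨fun h hh => mul_bor_mem_IwSet E hh (i_mem_bor E t),
          fun h hh => mul_bor_mem_IwSet E hh ((bor E K).inv_mem (i_mem_bor E t))⟩
      · have hpa : b.IsPos a := RootPairing.Base.isPos_of_mem_support ha
        exact ⟨fun h hh => mul_bor_mem_IwSet E hh (uu_mem_bor E hpa x),
          fun h hh => mul_bor_mem_IwSet E hh ((bor E K).inv_mem (uu_mem_bor E hpa x))⟩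
      · refine ⟨fun h hh => mul_neg_mem_IwSet E ha hh x, fun h hh => ?_⟩
        rw [← E.uu_neg]
        exact mul_neg_mem_IwSet E ha hh (-x)
    | one => simp
    | mul g h _ _ ihg ihh =>
      refine ⟨fun k hk => ?_, fun k hk => ?_⟩
      · rw [← mul_assoc]
        exact ihh.1 _ (ihg.1 _ hk)
      · rw [mul_inv_rev, ← mul_assoc]
        exact ihg.2 _ (ihh.2 _ hk)
    | inv g _ ih =>
      refine ⟨ih.2, fun h hh => ?_⟩
      rw [inv_inv]
      exact ih.1 h hh
  have h1 := key.1 1 ⟨1, 1, (bor E K).one_mem, by rw [Pt.map_one, mul_one]⟩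
  rwa [one_mul] at h1

lemma evL_mem_closure (L : List (Lt b.support × B)) :
    (mdl E B).evL L ∈ Subgroup.closure (gens E B) := by
  induction L with
  | nil => exact Subgroup.one_mem _
  | cons p L ih =>
    rw [Model.evL_cons]
    refine Subgroup.mul_mem _ (Subgroup.subset_closure ?_) ih
    rcases p with ⟨⟨_ | _, a⟩, x⟩
    · exact Or.inr ⟨a, a.2, x, Or.inr rfl⟩
    · exact Or.inr ⟨a, a.2, x, Or.inl rfl⟩

/-- cell elements are in the group generated by the simple root groups and the torus -/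
lemma cell_mem_closure (x : idx → B) (t : TPt M B) :
    E.cell x t ∈ Subgroup.closure (gens E B) := by
  obtain ⟨x', hx'⟩ := exists_cell_mem_graph E E B x t
  obtain ⟨L, t', h⟩ := hx'
  have h2 : E.cell x t = (mdl E B).evL L * E.i B t' := congrArg Prod.snd h
  rw [h2]
  exact Subgroup.mul_mem _ (evL_mem_closure E L) (Subgroup.subset_closure (Or.inl ⟨t', rfl⟩))

/-- over an algebraically closed field the points are generated by the simple root groups and the
torus -/
theorem closure_gens_eq_top (K : Type u) [Field K] [IsAlgClosed K] [Algebra R K] :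
    Subgroup.closure (gens E K) = ⊤ := by
  rw [eq_top_iff]
  intro g _
  obtain ⟨x, t, x', t', rfl⟩ := PinCover.exists_cell_mul_cell E g
  exact Subgroup.mul_mem _ (cell_mem_closure E x t) (cell_mem_closure E x' t')

variable (V) in
/-- **Iwasawa decomposition**: `G(K) = G(V) B(K)` for a valuation ring `V` with algebraically closed
fraction field `K`. -/
theorem iwasawa [IsAlgClosed K] (g : Pt R A K) :
    ∃ (g₀ : Pt R A V) (x : idx → K) (t : TPt M K),
      g = Pt.map (inc R V K) g₀ * (posP E x * E.i K t) := by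
  have h1 : g ∈ Subgroup.closure (gens E K) := by
    rw [closure_gens_eq_top]
    exact Subgroup.mem_top g
  obtain ⟨g₀, q, hq, rfl⟩ := iwasawa_of_closure (V := V) E h1
  obtain ⟨x, t, rfl⟩ := (mem_bor E).1 hq
  exact ⟨g₀, x, t, rfl⟩

end Iwasawa

end Groth.Agent.RedSub.H660.Iwasawa
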