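import Groth.Agent.RedSub.H660.Types
import Groth.Agent.RedSub.H660.Classes

/-!
# Representability of functors of parabolic subgroups of a split reductive group

`exists_rep` : `D` a splitting of `G` over `S`, `𝒬` an étale local class of parabolic subgroups, invariant under
conjugation, such that each standard parabolic subgroup which is somewhere of class `𝒬` is everywhere of class `𝒬`; then
the functor of subgroups of class `𝒬` is represented by a finite disjoint union of the quotients `G / P`.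
-/

set_option autoImplicit false
universe u

open CategoryTheory CategoryTheory.Limits AlgebraicGeometry Opposite MonoidalCategory CartesianMonoidalCategory
  MonObj GrpObj

namespace Groth.Agent.RedSub.H660.ParRep

open Groth.Agent.Sga3B Groth.Agent.Sga3B.BcPts Groth.Agent.Sga3B.MT Groth.Agent.Sga3B.RepDescent
open Groth.Agent.Sga3B.Parab Groth.Agent.Sga3B.Par
open Groth.Agent.RedSub.H647.SubPt Groth.Agent.RedSub.H647.SubF Groth.Agent.RedSub.H647.SubF.SubClass
open Groth.Agent.Redsub.H649.ConjPts (fam InC taut)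
open Groth.Agent.RedSub.H645.EtConj Groth.Agent.RedSub.H660.ConjRep Groth.Agent.RedSub.H660.Types

variable {S : Scheme.{u}} {G : Over S} [GrpObj G]

lemma elConj_symm {P Q : Over S} [GrpObj P] [GrpObj Q] {p : P ⟶ G} {q : Q ⟶ G} {s : S} (h : ELConj p q s) :
    ELConj q p s := by
  obtain ⟨U, f, h1, h2, g, hg⟩ := h
  exact ⟨U, f, h1, h2, g⁻¹, hg.inv⟩

/-- a splitting of the base change, and its standard subgroups -/
lemma isDynP_splitBc {S' : Scheme.{u}} (f : S' ⟶ S) (D : Red.SplitRed G) (x : Module.Dual ℤ D.M) {P : Over S}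
    [GrpObj P] {p : P ⟶ G} (hp : IsDynP (coch D x) p) :
    IsDynP (coch (SplitBc264.splitBc f D) x) ((Over.pullback f).map p) := by
  rw [coch_splitBc]
  exact hp.bc f

/-- étale local conjugacy to a standard parabolic subgroup, relative form -/
lemma exists_type_bc (D : Red.SplitRed G) {rho : Module.Dual ℤ D.M} (hrho : ∀ a, rho (D.P.root a) ≠ 0)
    {S' : Scheme.{u}} (f : S' ⟶ S) {H : Over S'} [GrpObj H] (h : H ⟶ Red.bc f G) (hh : Red.IsParabolic h) (s : S') :
    ∃ x : Module.Dual ℤ D.M, Dom D rho x ∧ ∀ (y : Module.Dual ℤ D.M), supp D y = supp D x →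
      ∀ {Q : Over S} [GrpObj Q] (q : Q ⟶ G), IsDynP (coch D y) q → ELConj ((Over.pullback f).map q) h s := by
  obtain ⟨x, hx, H⟩ := exists_type (SplitBc264.splitBc f D) rho hrho h hh s
  exact ⟨x, hx, fun y hy {Q} _ q hq => elConj_symm (H y hy _ (isDynP_splitBc f D y hq))⟩

/-- conjugate subgroups: points -/
lemma pt_of_elConj {S' : Scheme.{u}} {f : S' ⟶ S} {H : Over S'} [GrpObj H] {h : H ⟶ Red.bc f G} {Q : Over S}
    [GrpObj Q] {q : Q ⟶ G} {s : S'} (hc : ELConj ((Over.pullback f).map q) h s) :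
    ∃ (U : Scheme.{u}) (π : U ⟶ S'), Etale π ∧ s ∈ Set.range π ∧ ∃ g₀ : Over.mk (π ≫ f) ⟶ G,
      ∀ (X : Scheme.{u}) (y : X ⟶ U) (w : X ⟶ G.left), Pt (fam q g₀) y w ↔ Pt h (y ≫ π) w := by
  obtain ⟨U, π, h1, h2, g, hg⟩ := hc
  exact ⟨U, π, h1, h2, _, Groth.Agent.Redsub.H649.ConjLoc.samePoints_of_conjEq (M := Over.mk f) π g
    ((RedSub.H645.ConjEqIff.conjEq_iff g).2 hg)⟩

/-- the family `fam q g₀` conjugated back -/
lemma pt_fam_cj_inv {S' : Scheme.{u}} {f : S' ⟶ S} {Q : Over S} (q : Q ⟶ G) (g₀ : Over.mk f ⟶ G)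
    (X : Scheme.{u}) (y : X ⟶ S') (w : X ⟶ G.left) :
    Pt (fam q g₀ ≫ cj g₀⁻¹) y w ↔ Pt ((Over.pullback f).map q) y w := by
  have e : fam q g₀ ≫ cj g₀⁻¹ = (Over.pullback f).map q := by
    rw [Groth.Agent.Redsub.H649.ConjPts.fam, Category.assoc, cj_cj_inv]
    exact Category.comp_id _
  rw [e]

/-- **Parabolic subgroups of a given class of a split group.** -/
theorem exists_rep (D : Red.SplitRed G) {rho : Module.Dual ℤ D.M} (hrho : ∀ a, rho (D.P.root a) ≠ 0)
    (𝒬 : SubClass G) (hloc : 𝒬.IsLocal (fun {_ _ _} q => EtCov q))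
    (hpar : ∀ {S' : Scheme.{u}} (f : S' ⟶ S) {H : Over S'} [GrpObj H] (h : H ⟶ Red.bc f G), 𝒬.Q f h →
      Red.IsParabolic h)
    (hcj : ∀ {S' : Scheme.{u}} (f : S' ⟶ S) {H : Over S'} [GrpObj H] (h : H ⟶ Red.bc f G) (g₀ : Over.mk f ⟶ G),
      𝒬.Q f h → 𝒬.Q f (h ≫ cj g₀))
    (hconst : ∀ (x : Module.Dual ℤ D.M) {P : Over S} [GrpObj P] (p : P ⟶ G), IsDynP (coch D x) p →
      ∀ {S' : Scheme.{u}} (f : S' ⟶ S), Nonempty S' → 𝒬.Q f ((Over.pullback f).map p) →
        ∀ {S'' : Scheme.{u}} (f' : S'' ⟶ S), 𝒬.Q f' ((Over.pullback f').map p))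
    (hquot : ∀ {P : Over S} [GrpObj P] (p : P ⟶ G), Red.IsParabolic p → ∃ (X : Over S) (π : G ⟶ X),
      RedSub.IsQuotient p π ∧ Smooth X.hom ∧ IsProper X.hom) :
    ∃ (J : Type u) (_ : Finite J) (X : J → Over S), (∀ j, Smooth (X j).hom ∧ IsProper (X j).hom) ∧
      Nonempty (𝒬.subsF.RepresentableBy (sig X)) := by
  classical
  have haff : IsAffineHom G.hom := D.reductive.1
  choose x hxd hxs using fun j : Ty D rho => j.2
  choose P gP p hp hcl using fun j : Ty D rho => DynExist998.exists_isDynP (coch D (x j))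
  have hpp : ∀ j, Red.IsParabolic (p j) := fun j => isParabolic_of_isDynP D _ (hp j)
  choose X π hπ hXs hXp using fun j => hquot (p j) (hpp j)
  let J : Type u := ULift.{u} {j : Ty D rho // ∀ {S' : Scheme.{u}} (f : S' ⟶ S), 𝒬.Q f ((Over.pullback f).map (p j))}
  refine ⟨J, inferInstance, fun j => X j.down.1, fun j => ⟨hXs _, hXp _⟩, ?_⟩
  have hfam : FamIn 𝒬 (fun j : J => P j.down.1) (fun j => p j.down.1) := by
    intro j S' f g₀
    exact hcj f _ g₀ (j.down.2 f)
  have hlocIn : LocIn 𝒬 (fun j : J => P j.down.1) (fun j => p j.down.1) := by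
    intro S' f H _ h hQ s
    obtain ⟨z, hz, hz'⟩ := exists_type_bc D hrho f h (hpar f h hQ) s
    let j : Ty D rho := ⟨supp D z, z, hz, rfl⟩
    have hc := hz' (x j) (hxs j) (p j) (hp j)
    obtain ⟨U, ψ, h1, h2, g₀, hg₀⟩ := pt_of_elConj hc
    have h3 : 𝒬.Q (ψ ≫ f) (bcSub ψ h) := 𝒬.bc ψ hQ
    have m1 : IsMonHom (p j) := (hp j).isMonHom
    have m2 : IsClosedImmersion (p j).left := hcl j
    have m3 : IsMonHom (fam (p j) g₀) := by
      rw [Groth.Agent.Redsub.H649.ConjPts.fam]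
      have := isMonHom_cj g₀
      infer_instance
    have m4 : IsClosedImmersion ((Over.pullback (ψ ≫ f)).map (p j)).left :=
      MorphismProperty.overPullbackMap (P := @IsClosedImmersion) _ (p j) (hcl j)
    have m5 : IsClosedImmersion (fam (p j) g₀).left := isClosedImmersion_comp_cj g₀ _
    have m6 : Mono (fam (p j) g₀) := Sga3C.ClosedSub.mono_of_left _
    have m7 : Mono ((Over.pullback (ψ ≫ f)).map (p j)) := Sga3C.ClosedSub.mono_of_left _
    have h4 : 𝒬.Q (ψ ≫ f) (fam (p j) g₀) :=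
      𝒬.of_pt rfl (fun X y w => (pt_bcSub ψ h y w).trans (hg₀ X y w).symm) h3
    have h5 : 𝒬.Q (ψ ≫ f) ((Over.pullback (ψ ≫ f)).map (p j)) :=
      𝒬.of_pt rfl (pt_fam_cj_inv (p j) g₀) (hcj _ _ g₀⁻¹ h4)
    have hU : Nonempty U := ⟨h2.choose⟩
    exact ⟨U, ψ, h1, h2, ⟨j, fun f' => hconst (x j) (p j) (hp j) (ψ ≫ f) hU h5 f'⟩, g₀, hg₀⟩
  suffices hh : ∃ r : 𝒬.subsF.RepresentableBy (sig (fun j : J => X j.down.1)), ∀ j : J,
      r.homEquiv (π j.down.1 ≫ sigι (fun j : J => X j.down.1) j) = cl hfam j by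
    obtain ⟨r, -⟩ := hh
    exact ⟨r⟩
  refine exists_representableBy (𝒬 := 𝒬) hloc hfam hlocIn (fun j => ?_) (fun i j T c hT hc => ?_)
    (fun j : J => X j.down.1) (fun j => π j.down.1) (fun j => hπ j.down.1)
    (fun j => have := (hpp j.down.1).2.2.1; smooth_of_isQuotient (hπ j.down.1))
  · exact PbKN751.isNormalizerOf_of_KN (fun K _ _ => RG.PbNorm890.kn_of (PbAll.k2 K)) D.reductive _ (hpp _)
  · have h1 := supp_eq_of_conj hrho (hxd i.down.1) (hxd j.down.1) (hp i.down.1) (hp j.down.1) hT c hc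
    rw [hxs, hxs] at h1
    have h2 : i.down.1 = j.down.1 := Subtype.ext h1
    exact ULift.down_injective (Subtype.ext h2)

end Groth.Agent.RedSub.H660.ParRep
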