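import Groth.Agent.RedSub.H660.DetFam
import Groth.Agent.RedSub.H660.ParRep
import Groth.Agent.RedSub.H660.FinCop
import Groth.Agent.RedSub.H646.LocConj
import Groth.Agent.RedSub.H672.ParProper
import Groth.Agent.S2958

/-!
# Parabolic subgroups étale locally

* `locConj_of_locIn` : `LocIn` implies `LocConj` in every affine chart;
* `exists_models` : over a nonempty `V ⟶ S` such that `G_V` is split, finitely many models of the parabolic subgroups;
* `exists_rep_par` : over an affine such `V`, the functor of parabolic subgroups is represented by a proper smooth scheme;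
* `exists_split_specOver` : étale splitting over an affine base.
-/

set_option autoImplicit false
universe u

open CategoryTheory CategoryTheory.Limits AlgebraicGeometry Opposite MonoidalCategory CartesianMonoidalCategory
  MonObj GrpObj
open TensorProduct
open Groth.Agent.Sga3B.Cell

namespace Groth.Agent.RedSub.H660.ParLoc

open Groth.Agent.RedSub.H647.SubPt Groth.Agent.RedSub.H647.SubF Groth.Agent.RedSub.H647.SubF.SubClass
  Groth.Agent.RedSub.H646.DeltaRing
  Groth.Agent.RedSub.H646.InfPt Groth.Agent.RedSub.H646.PtsRep Groth.Agent.RedSub.H646.DeltaSch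
  Groth.Agent.Sga3B Groth.Agent.Sga3B.BcPts Groth.Agent.Sga3B.MT
open Groth.Agent.RedSub.H646.StabIdeal Groth.Agent.RedSub.H646.ConjInf
open Groth.Agent.Books.AffBridge Groth.Agent.RedSub.H660.ChartPts Groth.Agent.RedSub.H660.Restrict
  Groth.Agent.RedSub.H660.DetG Groth.Agent.RedSub.H660.DetFam Groth.Agent.RedSub.H660.ConjRep
  Groth.Agent.RedSub.H660.Types Groth.Agent.RedSub.H660.ParRep Groth.Agent.RedSub.H660.Classes
  Groth.Agent.RedSub.H660.FinCop
open Groth.Agent.Redsub.H649.ConjPts (fam InC taut)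

section locConj

variable {S : Scheme.{u}} {R : Type u} [CommRing R] {v : Spec (CommRingCat.of R) ⟶ S} {G : Over S} [GrpObj G]
  {A : Type u} [CommRing A] [Algebra R A] [PtGrp R A] (K : AffChart v G A)
  {R₀ : Type u} [CommRing R₀] [Algebra R R₀] {𝒬 : SubClass G}

/-- étale local conjugacy to one of the `q j` in terms of conditions. -/
theorem locConj_of_locIn {κ : Type u} {Q : κ → Over (SpecOver R R₀).left} [iQ : ∀ j, GrpObj (Q j)]
    {q : ∀ j, Q j ⟶ Red.bc ((SpecOver R R₀).hom ≫ v) G} (hQ : ∀ j, 𝒬.Q ((SpecOver R R₀).hom ≫ v) (q j))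
    (hl : LocIn (restrict ((SpecOver R R₀).hom ≫ v) 𝒬) Q q) :
    H646.LocConj.LocConj K (fun j => 𝒬.ofSub (T := (Over.map v).obj (SpecOver R R₀)) (hQ j)) := by
  intro T t₀ x τ
  obtain ⟨H, _, h, hQh, rfl⟩ := 𝒬.exists_ofSub x
  let T₂ : Over S := Over.mk (t₀.left ≫ (SpecOver R R₀).hom ≫ v)
  have hT₂ : t₀.left ≫ (SpecOver R R₀).hom ≫ v = T.hom ≫ v := by
    rw [← Category.assoc, Over.w t₀]
  let p : T₂ ⟶ (Over.map v).obj T := Over.homMk (𝟙 T.left) ((Category.id_comp _).trans hT₂.symm)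
  obtain ⟨H₁, _, h₁, hQ₁, hp₁⟩ := 𝒬.exists_bc p (T := (Over.map v).obj T) hQh
  let t₁ : T.left ⟶ Spec (CommRingCat.of R₀) := t₀.left
  let h₂ : H₁ ⟶ Red.bc (t₁ ≫ wV R₀ v) G := h₁
  let Q' : κ → Over (Spec (CommRingCat.of R₀)) := Q
  have iQ' : ∀ j, GrpObj (Q' j) := iQ
  let q' : ∀ j, Q' j ⟶ Red.bc (wV R₀ v) G := q
  obtain ⟨U, π, hπ, ⟨z, rfl⟩, j, hj⟩ := exists_conjE (Q := Q') (q := q') K R₀ hl t₁ h₂ hQ₁ τ
  obtain ⟨W, hW, hzW, -⟩ := exists_isAffineOpen_mem_and_subset (X := U) (x := z) (U := ⊤) trivial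
  let C : Type u := Γ(U, W)
  let c₀ : Spec (CommRingCat.of C) ⟶ U := hW.fromSpec
  have hc₀ : IsOpenImmersion c₀ := inferInstanceAs (IsOpenImmersion hW.fromSpec)
  obtain ⟨z', hz'⟩ : z ∈ Set.range c₀ := by
    have := hW.range_fromSpec
    change z ∈ Set.range hW.fromSpec
    rw [this]
    exact hzW
  obtain ⟨ρ₀, hρ₀⟩ := exists_sp (c₀ ≫ π ≫ t₁)
  let _ : Algebra R₀ C := ρ₀.toAlgebra
  let _ : Algebra R C := (ρ₀.comp (algebraMap R R₀)).toAlgebra
  have i1 : IsScalarTower R R₀ C := IsScalarTower.of_algebraMap_eq' rfl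
  have hρ : sp (algebraMap R₀ C) = c₀ ≫ π ≫ t₁ := hρ₀
  obtain ⟨g, hg⟩ := hj C c₀ hρ.symm
  have h0 : t₁ ≫ sp (algebraMap R R₀) = T.hom := Over.w t₀
  have ht : (c₀ ≫ π) ≫ T.hom = sp (algebraMap R C) := by
    change _ = sp (ρ₀.comp (algebraMap R R₀))
    rw [sp_comp, hρ₀, ← h0]
    simp only [Category.assoc]
  let t : SpecOver R C ⟶ T := Over.homMk (c₀ ≫ π) ht
  have hte : Etale (c₀ ≫ π) := inferInstance
  refine ⟨C, inferInstance, inferInstance, t, hte, ⟨z', ?_⟩, IsScalarTower.toAlgHom R R₀ C, ?_, g, j, ?_⟩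
  · change (c₀ ≫ π) z' = π z
    rw [Scheme.Hom.comp_apply, hz']
  · apply Over.OverMorphism.ext
    change sp (algebraMap R₀ C) = (c₀ ≫ π) ≫ t₁
    rw [hρ, Category.assoc]
  · funext D _ _ φ c
    apply propext
    have h1 := hg D φ (Cell.Pt.mk c)
    have h2 := (hp₁ _ (sp φ.toRingHom ≫ c₀ ≫ π) (ptL K (Cell.Pt.mk c))).symm.trans h1
    have h3 : H646.DeltaSch.condX K (𝒬.ofSub (T := (Over.map v).obj T) hQh) t D φ c ↔
        H647.SubPt.Pt h (sp φ.toRingHom ≫ c₀ ≫ π) (ptL K (Cell.Pt.mk c)) := ptX_ofSub (T := (Over.map v).obj T) hQh _ _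
    have h4 : H647.SubPt.Pt h (sp φ.toRingHom ≫ c₀ ≫ π) (ptL K (Cell.Pt.mk c)) ↔
        H647.SubPt.Pt h ((sp φ.toRingHom ≫ c₀ ≫ π) ≫ 𝟙 _) (ptL K (Cell.Pt.mk c)) := by
      rw [Category.comp_id]
    have h5 : H646.DeltaSch.condX K (𝒬.ofSub (T := (Over.map v).obj (SpecOver R R₀)) (hQ j)) (𝟙 _) =
        condV K R₀ (q j) := H646.DeltaSch.condX_ofSub K (T := SpecOver R R₀) (hQ j) (𝟙 _)
    rw [h3, h5, h4]
    exact h2

end locConj

section models

variable {S : Scheme.{u}} {G : Over S} [GrpObj G]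

/-- **Finitely many models of the parabolic subgroups of a split group.** -/
theorem exists_models (hG : Red.IsReductive G) {V : Scheme.{u}} (w : V ⟶ S) [Nonempty V]
    (D : Red.SplitRed (Red.bc w G)) :
    ∃ (κ : Type u) (_ : Finite κ) (Q : κ → Over V) (_ : ∀ k, GrpObj (Q k)) (q : ∀ k, Q k ⟶ Red.bc w G),
      (∀ k, Red.IsParabolic (q k)) ∧ LocIn (restrict w (good_isParabolic.toClass hG)) Q q := by
  classical
  obtain ⟨rho, hrho⟩ := exists_regular D
  have haff : IsAffineHom (Red.bc w G).hom := D.reductive.1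
  choose x hxd hxs using fun j : Ty D rho => j.2
  choose P gP p hp hcl using fun j : Ty D rho => Parab.DynExist998.exists_isDynP (Par.coch D (x j))
  have hpp : ∀ j, Red.IsParabolic (p j) := fun j => isParabolic_of_isDynP D _ (hp j)
  refine ⟨ULift.{u} (Ty D rho), inferInstance, fun j => P j.down, fun j => gP j.down, fun j => p j.down,
    fun j => hpp _, ?_⟩
  refine good_isParabolic.locIn hG w fun {S'} f {H} _ h hh s => ?_
  obtain ⟨z, hz, hz'⟩ := exists_type_bc D hrho f h hh s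
  let j : Ty D rho := ⟨supp D z, z, hz, rfl⟩
  exact ⟨⟨j⟩, hz' (x j) (hxs j) (p j) (hp j)⟩

/-- **The functor of parabolic subgroups of a split group** is represented by a proper smooth scheme. -/
theorem exists_rep_par (hG : Red.IsReductive G) {R₀ : CommRingCat.{u}} (w : Spec R₀ ⟶ S) [Nonempty (Spec R₀)]
    (D : Red.SplitRed (Red.bc w G)) :
    ∃ A' : Over (Spec R₀), Nonempty (((Over.map w).op ⋙ (good_isParabolic.toClass hG).subsF).RepresentableBy A') ∧
      IsProper A'.hom ∧ Smooth A'.hom := by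
  obtain ⟨rho, hrho⟩ := exists_regular D
  have hGV : Red.IsReductive (Red.bc w G) := D.reductive
  obtain ⟨J, _, X, hX, hr⟩ := ParRep.exists_rep D hrho (restrict w (good_isParabolic.toClass hG))
    (restrict_isLocal w (good_isParabolic.toClass_isLocal hG))
    (fun {S'} f {H} _ h hh => (good_isParabolic.restrict_Q_iff hG w f h).1 hh)
    (fun {S'} f {H} _ h g₀ hh => (good_isParabolic.restrict_Q_iff hG w f _).2
      (good_isParabolic.comp_cj g₀ ((good_isParabolic.restrict_Q_iff hG w f h).1 hh)))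
    (fun x {P} _ p hp {S'} f _ _ {S''} f' => (good_isParabolic.restrict_Q_iff hG w f' _).2
      (good_isParabolic.bc f' hGV (isParabolic_of_isDynP D x hp)))
    (fun {P} _ p hp => by
      obtain ⟨Q, q, h1, h2, h3, -⟩ := H672.ParProper.exists_quotient hGV p hp
      exact ⟨Q, q, h1, h2, h3⟩)
  exact ⟨sig X, representableBy_restrict w hr, isProper_sig X fun j => (hX j).2, smooth_sig X fun j => (hX j).1⟩

/-- étale splitting over an affine base -/
theorem exists_split_specOver (hG : Red.IsReductive G) {R : Type u} [CommRing R] (v : Spec (CommRingCat.of R) ⟶ S)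
    (p : Spec (CommRingCat.of R)) :
    ∃ (R₀ : Type u) (_ : CommRing R₀) (_ : Algebra R R₀), Etale (SpecOver R R₀).hom ∧
      p ∈ Set.range (SpecOver R R₀).hom ∧ Nonempty (Red.SplitRed (Red.bc ((SpecOver R R₀).hom ≫ v) G)) := by
  obtain ⟨U, f, hf, ⟨u, hu⟩, ⟨D⟩⟩ := S2958.result (Red.bc v G) (RedBcAny636.isReductive_bc v hG) p
  obtain ⟨W, hW, huW, -⟩ := exists_isAffineOpen_mem_and_subset (X := U) (x := u) (U := ⊤) trivial
  let j : Spec Γ(U, W) ⟶ U := hW.fromSpec
  have hj : IsOpenImmersion j := hW.isOpenImmersion_fromSpec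
  obtain ⟨z, hz⟩ : u ∈ Set.range j := by
    rw [hW.range_fromSpec]
    exact huW
  obtain ⟨φ, hφ⟩ : ∃ φ : R →+* Γ(U, W), sp φ = j ≫ f := exists_sp (B := R) (C := Γ(U, W)) (j ≫ f)
  let _ : Algebra R Γ(U, W) := φ.toAlgebra
  have e : (SpecOver R Γ(U, W)).hom = j ≫ f := hφ
  refine ⟨Γ(U, W), inferInstance, inferInstance, ?_, ?_, ?_⟩
  · rw [e]
    exact inferInstanceAs (Etale (j ≫ f))
  · rw [e]
    refine ⟨z, ?_⟩
    change (j ≫ f) z = p
    rw [Scheme.Hom.comp_apply, hz]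
    exact hu
  · have e2 : (SpecOver R Γ(U, W)).hom ≫ v = j ≫ f ≫ v := by
      rw [e]
      exact Category.assoc _ _ _
    exact (congrArg (fun z => Nonempty (Red.SplitRed (Red.bc z G))) e2).mpr
      ⟨Par.splitBcComp j (f ≫ v) (SplitIso848.splitOfIso (BcIso.bcCompIso f v G).symm D)⟩

end models

end Groth.Agent.RedSub.H660.ParLoc
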