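import Groth.Agent.RedSub.H660.ParLoc
import Groth.Agent.RedSub.H646.LocalAll
import Groth.Agent.RedSub.H650.ParClosed

/-!
# The scheme of parabolic subgroups of a reductive group scheme is smooth and projective
-/

set_option autoImplicit false
universe u

open CategoryTheory CategoryTheory.Limits AlgebraicGeometry Opposite MonoidalCategory CartesianMonoidalCategory
  MonObj GrpObj
open TensorProduct
open Groth.Agent.Sga3B.Cell

namespace Groth.Agent.RedSub.H660.ParMain

open Groth.Agent.RedSub.H647.SubPt Groth.Agent.RedSub.H647.SubF Groth.Agent.RedSub.H646.DeltaRing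
  Groth.Agent.RedSub.H646.InfPt Groth.Agent.RedSub.H646.PtsRep Groth.Agent.RedSub.H646.DeltaSch
  Groth.Agent.RedSub.H646.Glob Groth.Agent.Sga3B Groth.Agent.Sga3B.BcPts Groth.Agent.Sga3B.MT
open Groth.Agent.Books.AffBridge Groth.Agent.RedSub.H660.Classes

variable {S : Scheme.{u}} {G : Over S} [GrpObj G]

/-- parabolic subgroups have connected geometric fibres -/
theorem connectedSpace_geomFibre {V : Scheme.{u}} {H P : Over V} [GrpObj H] [GrpObj P] (hH : Red.IsReductive H)
    (p : P ⟶ H) (hp : Red.IsParabolic p) (s : V) : ConnectedSpace (Red.geomFibre s P).left :=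
  H650.ParClosed.connectedSpace_geomFibre hH p (H672.ParProper.isParabolicSub hp) s

/-- Zariski-locally the functor of parabolic subgroups is represented by a closed subscheme of a projective space. -/
theorem exists_good (hG : Red.IsReductive G) (s : S) :
    ∃ (V : Scheme.{u}) (j : V ⟶ S), IsOpenImmersion j ∧ s ∈ Set.range j ∧
      GoodAt (good_isParabolic.toClass hG).subsF j := by
  obtain ⟨W, hW, hsW, -⟩ := exists_isAffineOpen_mem_and_subset (x := s) (U := ⊤) trivial
  let v : Spec Γ(S, W) ⟶ S := hW.fromSpec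
  have hvo : IsOpenImmersion v := hW.isOpenImmersion_fromSpec
  have hsv : s ∈ Set.range v := by
    rw [hW.range_fromSpec]
    exact hsW
  obtain ⟨p, rfl⟩ := hsv
  obtain ⟨R₀, _, _, he, hp, ⟨D⟩⟩ := ParLoc.exists_split_specOver hG (R := Γ(S, W)) v p
  have hne : Nonempty (SpecOver Γ(S, W) R₀).left := ⟨hp.choose⟩
  have hne' : Nonempty (Spec (CommRingCat.of R₀)) := hne
  obtain ⟨κ, _, Q, _, q, hq, hl⟩ := ParLoc.exists_models hG ((SpecOver Γ(S, W) R₀).hom ≫ v) D
  have h1 : IsAffineHom G.hom := hG.1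
  have h2 : Smooth G.hom := hG.2.1
  have hrep : ∃ A' : Over (SpecOver Γ(S, W) R₀).left,
      Nonempty (((Over.map ((SpecOver Γ(S, W) R₀).hom ≫ v)).op ⋙
        (good_isParabolic.toClass hG).subsF).RepresentableBy A') ∧ IsProper A'.hom := by
    obtain ⟨A', h3, h4, -⟩ := ParLoc.exists_rep_par hG (R₀ := CommRingCat.of R₀) ((SpecOver Γ(S, W) R₀).hom ≫ v) D
    exact ⟨A', h3, h4⟩
  obtain ⟨V, hV, hgood⟩ := H646.LocalAll.exists_local_all (good_isParabolic.toClass hG) (good_isParabolic.toClass_isLocal hG) v he q hq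
    (fun k => (hq k).2.2.1) (fun k s => connectedSpace_geomFibre (RedBcAny636.isReductive_bc _ hG) (q k) (hq k) s)
    (fun {_} _ _ _ K => ParLoc.locConj_of_locIn K hq hl) hrep p hp
  refine ⟨V, V.ι ≫ v, inferInstance, ⟨⟨_, hV⟩, ?_⟩, hgood⟩
  rw [Scheme.Hom.comp_apply]
  rfl

/-- **The scheme of parabolic subgroups.** -/
theorem main (hG : Red.IsReductive G) :
    ∃ (M : Over S) (H : Over M.left) (_ : GrpObj H) (h : H ⟶ Red.bc M.hom G), RedSub.RepresentsPar G M H h ∧
      Smooth M.hom ∧ IsProper M.hom ∧ RedSub.IsLocallyProjective M := by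
  let 𝒬 := good_isParabolic.toClass hG
  obtain ⟨M, ⟨rM⟩, hprop, hproj⟩ := exists_global (𝒬.isEtSheaf_subsF (good_isParabolic.toClass_isLocal hG))
    (exists_good hG)
  have hsm : Smooth M.hom := 𝒬.prop_of_representableBy @Smooth rM fun s => by
    obtain ⟨W, hW, hsW, -⟩ := exists_isAffineOpen_mem_and_subset (x := s) (U := ⊤) trivial
    let v : Spec Γ(S, W) ⟶ S := hW.fromSpec
    have hvo : IsOpenImmersion v := hW.isOpenImmersion_fromSpec
    have hsv : s ∈ Set.range v := by
      rw [hW.range_fromSpec]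
      exact hsW
    obtain ⟨p, rfl⟩ := hsv
    obtain ⟨R₀, _, _, he, ⟨q, hp⟩, ⟨D⟩⟩ := ParLoc.exists_split_specOver hG (R := Γ(S, W)) v p
    have hne : Nonempty (SpecOver Γ(S, W) R₀).left := ⟨q⟩
    have hne' : Nonempty (Spec (CommRingCat.of R₀)) := hne
    obtain ⟨A', h3, h4, h5⟩ := ParLoc.exists_rep_par hG (R₀ := CommRingCat.of R₀) ((SpecOver Γ(S, W) R₀).hom ≫ v) D
    refine ⟨_, (SpecOver Γ(S, W) R₀).hom ≫ v, inferInstance, ⟨q, ?_⟩, A', h3, h5⟩
    rw [Scheme.Hom.comp_apply, hp]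
  obtain ⟨H, _, h, hM⟩ := 𝒬.exists_represents rM
  refine ⟨M, H, inferInstance, h, ⟨?_, ?_⟩, hsm, hprop, hproj⟩
  · exact H672.ParProper.isParabolicSub hM.1
  · intro S' f H' _ h' hh'
    exact hM.2 S' f H' h' (H650.ParClosed.isParabolic (RedBcAny636.isReductive_bc f hG) h' hh')

end Groth.Agent.RedSub.H660.ParMain
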