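import Groth.Agent.Sga3B.RepDescent7
import Groth.Agent.FlatA.EtaleSections

/-!
# Étale sheaves generated by the same families of sections

`exists_representableBy` : let `F` be an étale sheaf, `X` a scheme, `π i : P i ⟶ X` and `ξ i ∈ F (P i)`.  If the
`π i` generate `X` and the `ξ i` generate `F` locally for the étale topology, and if `a ≫ π i = b ≫ π j` is equivalent to
`F a (ξ i) = F b (ξ j)` for all `a : T ⟶ P i`, `b : T ⟶ P j`, then `X` represents `F`.
-/

set_option autoImplicit false
universe u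

open CategoryTheory CategoryTheory.Limits AlgebraicGeometry Opposite

namespace Groth.Agent.RedSub.H660.QuotSheaf

open Groth.Agent.Sga3B Groth.Agent.Sga3B.RepDescent

variable {S : Scheme.{u}}

/-- the sections `ξ i` generate `F` locally for the étale topology -/
def Gen (F : (Over S)ᵒᵖ ⥤ Type u) {J : Type u} (P : J → Over S) (ξ : ∀ i, F.obj (op (P i))) : Prop :=
  ∀ (T : Over S) (x : F.obj (op T)) (t : T.left), ∃ (T' : Over S) (f : T' ⟶ T), Etale f.left ∧
    t ∈ Set.range f.left ∧ ∃ (i : J) (a : T' ⟶ P i), F.map a.op (ξ i) = F.map f.op x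

/-- the relation between sections of `F` and sections of `F'` given by the generators `ξ`, `η` -/
def Rel {F F' : (Over S)ᵒᵖ ⥤ Type u} {J : Type u} {P : J → Over S} (ξ : ∀ i, F.obj (op (P i)))
    (η : ∀ i, F'.obj (op (P i))) {T : Over S} (x : F.obj (op T)) (y : F'.obj (op T)) : Prop :=
  ∀ (T' : Over S) (f : T' ⟶ T) (i : J) (a : T' ⟶ P i),
    F.map a.op (ξ i) = F.map f.op x ↔ F'.map a.op (η i) = F'.map f.op y

section rel

variable {F F' : (Over S)ᵒᵖ ⥤ Type u} {J : Type u} {P : J → Over S} {ξ : ∀ i, F.obj (op (P i))}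
  {η : ∀ i, F'.obj (op (P i))}

lemma Rel.symm {T : Over S} {x : F.obj (op T)} {y : F'.obj (op T)} (h : Rel ξ η x y) : Rel η ξ y x :=
  fun T' f i a => (h T' f i a).symm

lemma Rel.map {T : Over S} {x : F.obj (op T)} {y : F'.obj (op T)} (h : Rel ξ η x y) {T' : Over S} (g : T' ⟶ T) :
    Rel ξ η (F.map g.op x) (F'.map g.op y) := by
  intro T'' f i a
  rw [← Functor.map_comp_apply, ← Functor.map_comp_apply, ← op_comp]
  exact h T'' (f ≫ g) i a

/-- uniqueness of sections over an étale cover -/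
lemma sheaf_ext (hF : IsEtSheaf F) {T : Over S} {K : Type u} (T' : K → Over S) (f : ∀ k, T' k ⟶ T)
    (hf : ∀ k, Etale (f k).left) (hT : ∀ t : T.left, ∃ (k : K) (t' : (T' k).left), (f k).left t' = t)
    {y z : F.obj (op T)} (h : ∀ k, F.map (f k).op y = F.map (f k).op z) : y = z := by
  obtain ⟨w, hw, hw'⟩ := hF T' f hf hT (fun i => F.map (f i).op y) (fun i j R a b hab => by
    rw [← Functor.map_comp_apply, ← Functor.map_comp_apply, ← op_comp, ← op_comp, hab])
  rw [hw' y (fun i => rfl), hw' z fun i => (h i).symm]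

lemma Rel.unique (hF' : IsEtSheaf F') (hξ : Gen F P ξ) {T : Over S} {x : F.obj (op T)} {y y' : F'.obj (op T)}
    (h : Rel ξ η x y) (h' : Rel ξ η x y') : y = y' := by
  choose T' f hf ht i a ha using hξ T x
  refine sheaf_ext hF' T' f hf (fun t => ⟨t, ht t⟩) fun t => ?_
  rw [← (h _ (f t) (i t) (a t)).1 (ha t), ← (h' _ (f t) (i t) (a t)).1 (ha t)]

lemma Rel.exists (hF : IsEtSheaf F) (hF' : IsEtSheaf F') (hξ : Gen F P ξ)
    (H : ∀ (i j : J) (T : Over S) (a : T ⟶ P i) (b : T ⟶ P j),
      F.map a.op (ξ i) = F.map b.op (ξ j) ↔ F'.map a.op (η i) = F'.map b.op (η j)) {T : Over S}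
    (x : F.obj (op T)) : ∃ y : F'.obj (op T), Rel ξ η x y := by
  choose T' f hf ht i a ha using hξ T x
  have key : ∀ (s t : T.left) (R : Over S) (p : R ⟶ T' s) (q : R ⟶ T' t), p ≫ f s = q ≫ f t →
      F'.map p.op (F'.map (a s).op (η (i s))) = F'.map q.op (F'.map (a t).op (η (i t))) := by
    intro s t R p q hpq
    rw [← Functor.map_comp_apply, ← Functor.map_comp_apply, ← op_comp, ← op_comp, ← H, op_comp, op_comp,
      Functor.map_comp_apply, Functor.map_comp_apply, ha, ha, ← Functor.map_comp_apply,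
      ← Functor.map_comp_apply, ← op_comp, ← op_comp, hpq]
  obtain ⟨y, hy, -⟩ := hF' T' f hf (fun t => ⟨t, ht t⟩) (fun t => F'.map (a t).op (η (i t))) key
  refine ⟨y, fun T'' g j b => ?_⟩
  -- the pulled back cover of `T''`
  let R : T.left → Over S := fun t => Over.mk (pullback.fst g.left (f t).left ≫ T''.hom)
  let p : ∀ t, R t ⟶ T'' := fun t => Over.homMk (pullback.fst g.left (f t).left) rfl
  let q : ∀ t, R t ⟶ T' t := fun t => Over.homMk (pullback.snd g.left (f t).left) (by
    change pullback.snd g.left (f t).left ≫ (T' t).hom = pullback.fst g.left (f t).left ≫ T''.hom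
    rw [← Over.w (f t), ← Category.assoc, ← pullback.condition, Category.assoc, Over.w g])
  have hpq : ∀ t, p t ≫ g = q t ≫ f t := fun t => Over.OverMorphism.ext pullback.condition
  have hp : ∀ t, Etale (p t).left := fun t => by
    have := hf t
    change Etale (pullback.fst g.left (f t).left)
    infer_instance
  have hpT : ∀ z : T''.left, ∃ (t : T.left) (z' : (R t).left), (p t).left z' = z := by
    intro z
    obtain ⟨t', ht'⟩ := ht (g.left z)
    obtain ⟨w, hw, -⟩ := Scheme.Pullback.exists_preimage_pullback z t' ht'.symm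
    exact ⟨_, w, hw⟩
  -- the two equalities on the cover
  have e1 : ∀ t, F.map (p t).op (F.map g.op x) = F.map (q t ≫ a t).op (ξ (i t)) := by
    intro t
    rw [← Functor.map_comp_apply, ← op_comp, hpq, op_comp, Functor.map_comp_apply, ← ha, ← Functor.map_comp_apply,
      ← op_comp]
  have e2 : ∀ t, F'.map (p t).op (F'.map g.op y) = F'.map (q t ≫ a t).op (η (i t)) := by
    intro t
    rw [← Functor.map_comp_apply, ← op_comp, hpq, op_comp, Functor.map_comp_apply, hy, ← Functor.map_comp_apply,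
      ← op_comp]
  constructor
  · intro hb
    refine sheaf_ext hF' R p hp hpT fun t => ?_
    rw [e2, ← Functor.map_comp_apply, ← op_comp, ← H, op_comp, Functor.map_comp_apply, hb, e1]
  · intro hb
    refine sheaf_ext hF R p hp hpT fun t => ?_
    rw [e1, ← Functor.map_comp_apply, ← op_comp, H, op_comp, Functor.map_comp_apply, hb, e2]

end rel

/-- **Representability by generators and relations.** -/
theorem exists_representableBy {F : (Over S)ᵒᵖ ⥤ Type u} (hF : IsEtSheaf F) {J : Type u} (P : J → Over S)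
    (X : Over S) (π : ∀ i, P i ⟶ X) (ξ : ∀ i, F.obj (op (P i)))
    (hπ : ∀ (T : Over S) (x : T ⟶ X) (t : T.left), ∃ (T' : Over S) (f : T' ⟶ T), Etale f.left ∧
      t ∈ Set.range f.left ∧ ∃ (i : J) (a : T' ⟶ P i), a ≫ π i = f ≫ x)
    (hξ : Gen F P ξ)
    (H : ∀ (i j : J) (T : Over S) (a : T ⟶ P i) (b : T ⟶ P j),
      a ≫ π i = b ≫ π j ↔ F.map a.op (ξ i) = F.map b.op (ξ j)) :
    ∃ r : F.RepresentableBy X, ∀ i, r.homEquiv (π i) = ξ i := by
  have hX : IsEtSheaf (yoneda.obj X) := isEtSheaf_yoneda X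
  let π' : ∀ i, (yoneda.obj X).obj (op (P i)) := π
  have hπ' : Gen (yoneda.obj X) P π' := fun T x t => hπ T x t
  have H1 : ∀ (i j : J) (T : Over S) (a : T ⟶ P i) (b : T ⟶ P j),
      (yoneda.obj X).map a.op (π' i) = (yoneda.obj X).map b.op (π' j) ↔
        F.map a.op (ξ i) = F.map b.op (ξ j) := H
  have E1 := fun {T : Over S} (x : (yoneda.obj X).obj (op T)) => Rel.exists hX hF hπ' H1 x
  have E2 := fun {T : Over S} (y : F.obj (op T)) => Rel.exists hF hX hξ (fun i j T a b => (H1 i j T a b).symm) y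
  choose φ hφ using @E1
  have hinj : ∀ T : Over S, Function.Bijective (fun x : T ⟶ X => φ (T := T) x) := by
    intro T
    constructor
    · intro x x' hxx
      have h1 := hφ (T := T) x
      have h2 := hφ (T := T) x'
      rw [show φ (T := T) x = φ (T := T) x' from hxx] at h1
      exact Rel.unique hX hξ h1.symm h2.symm
    · intro y
      obtain ⟨x, hx⟩ := E2 y
      exact ⟨x, Rel.unique hF hπ' (hφ x) hx.symm⟩
  refine ⟨⟨fun {T} => Equiv.ofBijective (fun x : T ⟶ X => φ (T := T) x) (hinj T), ?_⟩, ?_⟩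
  · intro T T' f x
    exact Rel.unique hF hπ' (hφ (T := T) (f ≫ x)) ((hφ (T := T') x).map f)
  · intro i
    have h1 := (hφ (T := P i) (π i) (P i) (𝟙 _) i (𝟙 _)).1 rfl
    rw [op_id, Functor.map_id_apply, Functor.map_id_apply] at h1
    exact h1.symm

end Groth.Agent.RedSub.H660.QuotSheaf
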