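import Groth.Agent.RedSub.H645.BorelConj
import Groth.Agent.RedSub.H634.BorelStd
import Groth.Agent.Sga3B.Parab.PbFinal910
import Groth.Agent.Sga3B.BorLB3991
import Groth.Agent.Sga3B.AlgBc2

/-!
# Parabolic subgroups over an algebraically closed field: conjugacy to standard ones

`K` algebraically closed, `D` a splitting of the reductive group `G`, `rho` a coweight nonzero on the roots.

* `isBorelOver_of_regular` : `P_G(λ)` is a Borel subgroup for `λ` regular;
* `exists_conj_dom` : every parabolic subgroup is conjugate to `P_G(x)` with `x` nonnegative on the roots which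
  are positive for `rho`.
-/

set_option autoImplicit false

universe u

open CategoryTheory MonoidalCategory CartesianMonoidalCategory MonObj GrpObj AlgebraicGeometry

namespace Groth.Agent.RedSub.H660.TypeGeom

open Groth.Agent.Sga3B Groth.Agent.Sga3B.Parab Groth.Agent.Sga3B.Par
open Groth.Agent.Sga3B.Parab.ConjPt Groth.Agent.Sga3B.Parab.DynExist998

section general

variable {S : Scheme.{u}} {G : Over S} [GrpObj G]

/-- the two forms of the cocharacter of a splitting -/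
lemma coch_eq' (D : Red.SplitRed G) (mu : D.M →+ ℤ) :
    BorRP478.coch D mu = coch D mu.toIntLinearMap := by
  rw [coch, cochT, Category.assoc]
  rfl

lemma coch_eq'' (D : Red.SplitRed G) (x : Module.Dual ℤ D.M) :
    coch D x = BorRP478.coch D x.toAddMonoidHom := by
  rw [coch_eq']
  rfl

/-- The torus lies in `P_G(x)`. -/
lemma exists_torus (D : Red.SplitRed G) (x : Module.Dual ℤ D.M) {P : Over S} [GrpObj P] {p : P ⟶ G}
    (hp : IsDynP (coch D x) p) : ∃ t : D.T ⟶ P, t ≫ p = D.i := by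
  refine (hp.iff_ptP _ _).2 ?_
  rw [coch_eq'']
  exact BorLB2991.ptP_torus D _

/-- The root groups of the nonnegative roots lie in `P_G(x)`. -/
lemma exists_u (D : Red.SplitRed G) (x : Module.Dual ℤ D.M) {P : Over S} [GrpObj P] {p : P ⟶ G}
    (hp : IsDynP (coch D x) p) (a : D.idx) (ha : 0 ≤ x (D.P.root a)) : ∃ v : Red.Ga S ⟶ P, v ≫ p = D.u a := by
  rw [coch_eq''] at hp
  exact BorRP478.exists_lift_P D _ hp a ha

/-- If the root group of `a` lies in `P_G(x)` over a nonzero ring then `x` is nonnegative on `a`. -/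
lemma nonneg_of_mem {C : Type u} [CommRing C] [Nontrivial C] {c : Spec (CommRingCat.of C) ⟶ S}
    (D : Red.SplitRed G) (x : Module.Dual ℤ D.M) {P : Over S} [GrpObj P] {p : P ⟶ G}
    (hp : IsDynP (coch D x) p) (a : D.idx) (h : Mem p (GaPts.gaPt (aff C c) 1 ≫ D.u a)) :
    0 ≤ x (D.P.root a) := by
  rw [← limEx_root_iff (C := C) (c := c) D x a]
  have h1 := (hp.iff_ptP _ _).1 h C c (𝟙 _)
  rwa [Category.id_comp] at h1

/-- `P_G(rho) ⊆ P_G(x)` if `x` is nonnegative on the roots on which `rho` is nonnegative. -/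
lemma exists_le {D : Red.SplitRed G} {rho x : Module.Dual ℤ D.M}
    (h : ∀ a, 0 ≤ rho (D.P.root a) → 0 ≤ x (D.P.root a)) {B P : Over S} [GrpObj B] [GrpObj P] {b : B ⟶ G}
    {p : P ⟶ G} (hb : IsDynP (coch D rho) b) (hp : IsDynP (coch D x) p) : ∃ c : B ⟶ P, c ≫ p = b := by
  refine (hp.iff_ptP _ _).2 fun C _ c t => Signs.limEx h ?_
  exact (hb.iff_ptP _ _).1 ⟨𝟙 B, Category.id_comp _⟩ C c t

/-- The inner automorphism. -/
noncomputable def inn (w : 𝟙_ (Over S) ⟶ G) : G ≅ G where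
  hom := RG.BrHc.conjHom w (𝟙 G)
  inv := RG.BrHc.conjHom w⁻¹ (𝟙 G)
  hom_inv_id := by rw [RG.BrHc.comp_conjHom', Category.comp_id, RG.BrHc.conjHom_inv_conjHom]
  inv_hom_id := by rw [RG.BrHc.comp_conjHom', Category.comp_id, RG.BrHc.conjHom_conjHom_inv]

instance (w : 𝟙_ (Over S) ⟶ G) : IsMonHom (inn w).hom := RG.BrHc.isMonHom_conjHom w (𝟙 G)

lemma comp_inn (w : 𝟙_ (Over S) ⟶ G) {X : Over S} (g : X ⟶ G) :
    g ≫ (inn w).hom = (toUnit X ≫ w) * g * (toUnit X ≫ w)⁻¹ := by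
  change g ≫ RG.BrHc.conjHom w (𝟙 G) = _
  rw [RG.BrHc.comp_conjHom, Category.comp_id]

lemma conj_inn (w : 𝟙_ (Over S) ⟶ G) {P : Over S} (p : P ⟶ G) : Conj p (p ≫ (inn w).hom) w := by
  intro X x y
  rw [toUnit_unique x (toUnit _)]
  constructor
  · rintro ⟨z, rfl⟩
    exact ⟨z, by rw [← Category.assoc, comp_inn]⟩
  · rintro ⟨z, hz⟩
    refine ⟨z, ?_⟩
    rw [← Category.assoc, comp_inn] at hz
    exact mul_left_cancel (mul_right_cancel hz)

lemma Conj.of_same {P Q R : Over S} {p : P ⟶ G} {q : Q ⟶ G} {r : R ⟶ G} {X : Over S} {g : X ⟶ G}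
    (h : Conj p q g) (hqr : ∀ (Y : Over S) (y : Y ⟶ G), Mem q y ↔ Mem r y) : Conj p r g := by
  intro X' x y
  rw [h X' x y, hqr]

end general

section field

variable {K : Type u} [Field K] [IsAlgClosed K] {G : Over (Spec (CommRingCat.of K))} [GrpObj G]

/-- `P_G(λ)` is a Borel subgroup for `λ` regular -/
theorem isBorelOver_of_regular (D : Red.SplitRed G) (x : Module.Dual ℤ D.M)
    (hx : ∀ a, x (D.P.root a) ≠ 0) {P : Over (Spec (CommRingCat.of K))} [GrpObj P] {p : P ⟶ G}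
    (hp : IsDynP (coch D x) p) : Red.IsBorelOver K p :=
  AlgBc.isBorel_iff.1 (RedSub.H634.BorelStd.isBorel_of_isDynP D x hx hp)

omit [IsAlgClosed K] in
/-- A cocharacter of the torus of a splitting comes from a coweight. -/
lemma exists_coch (D : Red.SplitRed G) (mu : Red.Gm _ ⟶ D.T) [IsMonHom mu] :
    ∃ x : Module.Dual ℤ D.M, mu ≫ D.i = coch D x := by
  have h4 : IsMonHom D.split.hom.hom.hom := D.split.hom.hom.isMonHom_hom
  have h5 : IsMonHom (mu ≫ D.split.hom.hom.hom) := inferInstance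
  obtain ⟨x, hx⟩ := DSRigid.exists_eq_DSmap (R := K) (M := ℤ) (N := D.M) (mu ≫ D.split.hom.hom.hom)
  refine ⟨x.toIntLinearMap, ?_⟩
  rw [← coch_eq', BorRP478.coch_eq, ← hx]
  simp only [Category.assoc]
  rw [← Category.assoc D.split.hom.hom.hom, BorRP478.split_hom_inv, Category.id_comp]

/-- **Every parabolic subgroup is conjugate to a standard one.** -/
theorem exists_conj_dom (D : Red.SplitRed G) (rho : Module.Dual ℤ D.M) (hrho : ∀ a, rho (D.P.root a) ≠ 0)
    {P : Over (Spec (CommRingCat.of K))} [GrpObj P] (p : P ⟶ G) (hp : Red.IsParabolicOver K p) :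
    ∃ x : Module.Dual ℤ D.M, (∀ a, 0 < rho (D.P.root a) → 0 ≤ x (D.P.root a)) ∧
      ∀ {Q : Over (Spec (CommRingCat.of K))} [GrpObj Q] (q : Q ⟶ G), IsDynP (coch D x) q →
        ∃ g : 𝟙_ _ ⟶ G, Conj p q g := by
  have hG : Red.IsReductiveOver K G := AlgBc.isReductive_iff.1 D.reductive
  have hGaff : IsAffine G.left := hG.1
  have hGsm : Smooth G.hom := hG.2.1
  have haff : IsAffineHom G.hom := D.reductive.1
  obtain ⟨B₁, _, b₁, hb₁, hcl₁⟩ := DynExist998.exists_isDynP (coch D rho)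
  have hB₁ := isBorelOver_of_regular D rho hrho hb₁
  obtain ⟨B₀, _, b₀, hb₀⟩ := hp.2.2.2
  obtain ⟨w, hw⟩ := RedSub.H645.BorelConj.exists_conj hb₀ hB₁
  have hp' : Red.IsParabolicOver K (p ≫ (inn w).hom) := PbK2.isParabolicOver_comp_iso p (inn w) hp
  have hp'm : IsMonHom (p ≫ (inn w).hom) := hp'.1
  have hp'c : IsClosedImmersion (p ≫ (inn w).hom).left := hp'.2.1
  have hp'mono : Mono (p ≫ (inn w).hom) := Sga3C.ClosedSub.mono_of_left _
  have hpw := conj_inn w p
  -- `B₁ ⊆ P'`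
  obtain ⟨c, hc⟩ : ∃ c : B₁ ⟶ P, c ≫ (p ≫ (inn w).hom) = b₁ := by
    obtain ⟨z, hz⟩ := (hw B₁ (toUnit _) (b₁ ≫ (inn w).inv)).2 ⟨𝟙 _, by
      rw [← comp_inn, Category.assoc, Iso.inv_hom_id, Category.comp_id, Category.id_comp]⟩
    refine ⟨z ≫ b₀, ?_⟩
    rw [Category.assoc, ← Category.assoc b₀, ← Category.assoc, hz, Category.assoc, Iso.inv_hom_id,
      Category.comp_id]
  obtain ⟨t, ht⟩ := exists_torus D rho hb₁
  have htc : (t ≫ c) ≫ (p ≫ (inn w).hom) = D.i := by rw [Category.assoc, hc, ht]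
  have hmax : Red.IsMaximalTorus (t ≫ c) :=
    BorSub908.isMaximalTorus_of_comp (p ≫ (inn w).hom) (t ≫ c) (by rw [htc]; exact D.maximalTorus)
  obtain ⟨-, hmain⟩ := PbFinal.dynK2 K G P (p ≫ (inn w).hom) hG hp'
  obtain ⟨-, mu, hmu, hP⟩ := hmain D.T (t ≫ c) hmax
  rw [htc] at hP
  obtain ⟨x, hx⟩ := exists_coch D mu
  rw [hx] at hP
  refine ⟨x, fun a ha => ?_, fun {Q} _ q hq => ⟨w, ?_⟩⟩
  · obtain ⟨v, hv⟩ := exists_u D rho hb₁ a ha.le
    refine nonneg_of_mem (C := K) (c := 𝟙 _) D x hP a ⟨GaPts.gaPt _ 1 ≫ v ≫ c, ?_⟩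
    rw [Category.assoc, Category.assoc, hc, hv]
  · refine Conj.of_same hpw fun Y y => ?_
    exact (hP.iff_ptP Y y).trans (hq.iff_ptP Y y).symm

end field

end Groth.Agent.RedSub.H660.TypeGeom
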