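import Groth.Agent.RedSub.H660.TypeGeom
import Groth.Agent.RedSub.H645.EtConj
import Groth.Agent.RedSub.H657.TrBorel
import Groth.Agent.Sga3B.Par.CanBc
import Groth.Agent.Sga3B.BaseZ

/-!
# Types of parabolic subgroups of a split reductive group

`D` a splitting of the reductive group `G` over any base, `rho` a coweight nonzero on the roots.  The type of a coweight
`x` is `supp D x = {a | 0 ≤ x a}`; `P_G(x)` depends only on it.

* `exists_type` : every parabolic subgroup is, étale locally, conjugate to some `P_G(x)`, `x` dominant;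
* `supp_eq_of_conj` : if `P_G(x)` and `P_G(y)`, `x` and `y` dominant, are conjugate over a nonempty scheme, then `x` and
  `y` have the same type.
-/

set_option autoImplicit false

universe u

open CategoryTheory MonoidalCategory CartesianMonoidalCategory MonObj GrpObj AlgebraicGeometry

namespace Groth.Agent.RedSub.H660.Types

open Groth.Agent.Sga3B Groth.Agent.Sga3B.Parab Groth.Agent.Sga3B.Par
open Groth.Agent.Sga3B.Parab.ConjPt Groth.Agent.RedSub.H660.TypeGeom Groth.Agent.RedSub.H645.EtConj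

variable {S : Scheme.{u}} {G : Over S} [GrpObj G]

/-- `x` is dominant for `rho` -/
def Dom (D : Red.SplitRed G) (rho x : Module.Dual ℤ D.M) : Prop :=
  ∀ a, 0 < rho (D.P.root a) → 0 ≤ x (D.P.root a)

/-- the type of a coweight -/
def supp (D : Red.SplitRed G) (x : Module.Dual ℤ D.M) : Set D.idx := {a | 0 ≤ x (D.P.root a)}

/-- the types of the dominant coweights -/
def Ty (D : Red.SplitRed G) (rho : Module.Dual ℤ D.M) : Type :=
  {I : Set D.idx // ∃ x : Module.Dual ℤ D.M, Dom D rho x ∧ supp D x = I}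

instance (D : Red.SplitRed G) (rho : Module.Dual ℤ D.M) : Finite (Ty D rho) := Subtype.finite

lemma exists_regular (D : Red.SplitRed G) [Nonempty S] :
    ∃ rho : Module.Dual ℤ D.M, ∀ a, rho (D.P.root a) ≠ 0 := by
  have := SplitReduced415.isReduced D
  obtain ⟨f, hf⟩ := BaseZ.exists_functional D.P
  exact ⟨f.toIntLinearMap, hf⟩

lemma isDynP_of_supp_eq {D : Red.SplitRed G} {x y : Module.Dual ℤ D.M} (h : supp D x = supp D y)
    {P : Over S} [GrpObj P] {p : P ⟶ G} (hp : IsDynP (coch D x) p) : IsDynP (coch D y) p :=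
  isDynP_of_signs (fun a => Set.ext_iff.1 h a) hp

lemma isParabolic_of_isDynP (D : Red.SplitRed G) (x : Module.Dual ℤ D.M)
    {P : Over S} [GrpObj P] {p : P ⟶ G} (hp : IsDynP (coch D x) p) : Red.IsParabolic p :=
  Parab.isParabolic_of_isDynP (coch D x) PbFinal.dynK1 D.reductive p hp

/-- **Every parabolic subgroup is étale locally conjugate to a standard one.** -/
theorem exists_type (D : Red.SplitRed G) (rho : Module.Dual ℤ D.M) (hrho : ∀ a, rho (D.P.root a) ≠ 0)
    {P : Over S} [GrpObj P] (p : P ⟶ G) (hp : Red.IsParabolic p) (s : S) :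
    ∃ x : Module.Dual ℤ D.M, Dom D rho x ∧ ∀ (y : Module.Dual ℤ D.M), supp D y = supp D x →
      ∀ {Q : Over S} [GrpObj Q] (q : Q ⟶ G), IsDynP (coch D y) q → ELConj p q s := by
  obtain ⟨x, hx, H⟩ := exists_conj_dom (SplitBc264.splitBc (Red.geomPt s) D) rho hrho _ (hp.2.2.2 s)
  refine ⟨x, hx, fun y hy {Q} _ q hq => ?_⟩
  have hq' := isDynP_of_supp_eq hy hq
  have h1 : IsDynP (coch (SplitBc264.splitBc (Red.geomPt s) D) x)
      ((Over.pullback (Red.geomPt s)).map q) := by
    rw [coch_splitBc]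
    exact hq'.bc (Red.geomPt s)
  obtain ⟨g, hg⟩ := H _ h1
  exact etConj_of_geomFibre D.reductive p q hp (isParabolic_of_isDynP D y hq) s ⟨g, hg⟩

/-- **Standard parabolic subgroups of different types are nowhere conjugate.** -/
theorem supp_eq_of_conj {D : Red.SplitRed G} {rho x y : Module.Dual ℤ D.M} (hrho : ∀ a, rho (D.P.root a) ≠ 0)
    (hx : Dom D rho x) (hy : Dom D rho y) {P Q : Over S} [GrpObj P] [GrpObj Q] {p : P ⟶ G} {q : Q ⟶ G}
    (hp : IsDynP (coch D x) p) (hq : IsDynP (coch D y) q) {T : Over S} (hT : Nonempty T.left) (c : T ⟶ G)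
    (h : RedSub.ConjEq p q c) : supp D x = supp D y := by
  obtain ⟨t⟩ := hT
  have haff : IsAffineHom G.hom := D.reductive.1
  obtain ⟨B, _, b, hb, -⟩ := DynExist998.exists_isDynP (coch D rho)
  have hB := RedSub.H634.BorelStd.isBorel_of_isDynP D rho hrho hb
  have hle : ∀ {z : Module.Dual ℤ D.M}, Dom D rho z → ∀ a, 0 ≤ rho (D.P.root a) → 0 ≤ z (D.P.root a) :=
    fun hz a ha => hz a (lt_of_le_of_ne ha (Ne.symm (hrho a)))
  obtain ⟨k, hk⟩ := RedSub.H657.TrBorel.inP_of_conjEq D.reductive p (isParabolic_of_isDynP D x hp) q b hB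
    (exists_le (hle hx) hb hp) (exists_le (hle hy) hb hq) c h
  have hpm := hp.isMonHom
  -- over `T`, `P` and `Q` have the same points
  have key : ∀ (X : Over S) (r : X ⟶ T) (g : X ⟶ G), Mem p g ↔ Mem q g := by
    intro X r g
    have h1 := (RedSub.H645.ConjEqIff.conjEq_iff c).1 h X r ((r ≫ c)⁻¹ * g * (r ≫ c))
    have h2 := conj_of_mem p ⟨k, hk⟩ X r ((r ≫ c)⁻¹ * g * (r ≫ c))
    have e : (r ≫ c) * ((r ≫ c)⁻¹ * g * (r ≫ c)) * (r ≫ c)⁻¹ = g := by group
    rw [e] at h1 h2
    rw [← h2, h1]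
  let C := T.left.residueField t
  let c₀ : Spec (CommRingCat.of C) ⟶ S := T.left.fromSpecResidueField t ≫ T.hom
  let r : aff C c₀ ⟶ T := Over.homMk (T.left.fromSpecResidueField t)
  ext a
  change 0 ≤ x (D.P.root a) ↔ 0 ≤ y (D.P.root a)
  constructor
  · intro ha
    obtain ⟨v, hv⟩ := exists_u D x hp a ha
    refine nonneg_of_mem (C := C) (c := c₀) D y hq a ((key _ r _).1 ⟨GaPts.gaPt _ 1 ≫ v, ?_⟩)
    rw [Category.assoc, hv]
  · intro ha
    obtain ⟨v, hv⟩ := exists_u D y hq a ha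
    refine nonneg_of_mem (C := C) (c := c₀) D x hp a ((key _ r _).2 ⟨GaPts.gaPt _ 1 ≫ v, ?_⟩)
    rw [Category.assoc, hv]

end Groth.Agent.RedSub.H660.Types
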